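import Groth.Agent.CAlgH3.Factorial
import Mathlib.Algebra.Homology.DerivedCategory.Ext.Linear
import Mathlib.Algebra.Homology.DerivedCategory.Ext.ExactSequences
import Mathlib.Algebra.Category.ModuleCat.Ext.HasExt
import Mathlib.Algebra.Category.ModuleCat.Projective

/-!
# Extensions of the maximal ideal of a two-dimensional regular local ring
-/

set_option autoImplicit false
set_option linter.style.haveILetI false

universe u

open CategoryTheory CategoryTheory.Abelian IsLocalRing

namespace Groth.Agent.Mod22.CB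

section Ring

variable (R : Type u) [CommRing R] [IsRegularLocalRing R] [IsDomain R]

/-- Two generators of the maximal ideal without common divisor. -/
theorem exists_params (h2 : ringKrullDim R = 2) :
    ∃ x y : R, maximalIdeal R = Ideal.span {x, y} ∧ IsRelPrime x y ∧ x ≠ 0 ∧
      ∀ a : R, maximalIdeal R ≠ Ideal.span {a} := by
  classical
  have h : ((maximalIdeal R).spanFinrank : WithBot ℕ∞) = 2 := by
    rw [IsRegularLocalRing.spanFinrank_maximalIdeal, h2]
  have hn : (maximalIdeal R).spanFinrank = 2 := by exact_mod_cast h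
  obtain ⟨t, ht, hts⟩ := Submodule.FG.exists_span_finset_card_eq_spanFinrank (IsNoetherian.noetherian (maximalIdeal R))
  rw [hn] at ht
  obtain ⟨x, y, hxy, rfl⟩ := Finset.card_eq_two.1 ht
  have hne : ∀ a : R, maximalIdeal R ≠ Ideal.span {a} := fun a ha => by
    have := Submodule.spanFinrank_span_le_ncard_of_finite (R := R) (Set.finite_singleton a)
    rw [← Ideal.submodule_span_eq] at ha
    rw [← ha, hn, Set.ncard_singleton] at this
    omega
  have hm : maximalIdeal R = Ideal.span {x, y} := by
    rw [← hts, Finset.coe_pair]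
  refine ⟨x, y, hm, fun d hdx hdy => ?_, fun hx => hne y (by rw [hm, hx, Ideal.span_insert_zero]), hne⟩
  by_contra hd
  refine hne d (le_antisymm ?_ ?_)
  · rw [hm, Ideal.span_le, Set.insert_subset_iff, Set.singleton_subset_iff]
    exact ⟨Ideal.mem_span_singleton.2 hdx, Ideal.mem_span_singleton.2 hdy⟩
  · exact (Ideal.span_singleton_le_iff_mem _).2 hd

variable {R}
variable {W V F : Type u} [AddCommGroup W] [Module R W] [AddCommGroup V] [Module R V] [AddCommGroup F] [Module R F]

/-- The maximal ideal is not free. -/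
theorem not_free_maximalIdeal (h2 : ringKrullDim R = 2) (j : F →ₗ[R] R) (hj : Function.Injective j)
    (hr : LinearMap.range j = maximalIdeal R) : ¬ Module.Free R F := by
  intro hF
  obtain ⟨-, -, -, -, -, hne⟩ := exists_params R h2
  haveI := hF
  let b := Module.Free.chooseBasis R F
  have hsub : Subsingleton (Module.Free.ChooseBasisIndex R F) := ⟨fun i i' => by
    by_contra hii
    have hrel : j (b i') • b i = j (b i) • b i' := hj (by
      rw [map_smul, map_smul, smul_eq_mul, smul_eq_mul, mul_comm])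
    have h0 := congrArg (fun v => b.repr v i) hrel
    simp only [map_smul, b.repr_self, Finsupp.smul_apply, Finsupp.single_eq_same, smul_eq_mul, mul_one,
      Finsupp.single_eq_of_ne hii, mul_zero] at h0
    exact b.ne_zero i' (hj (h0.trans j.map_zero.symm))⟩
  rcases isEmpty_or_nonempty (Module.Free.ChooseBasisIndex R F) with he | ⟨⟨i⟩⟩
  · refine hne 0 ?_
    have : j = 0 := b.ext fun i => isEmptyElim i
    rw [← hr, this, LinearMap.range_zero]
    simp
  · refine hne (j (b i)) ?_
    rw [← hr, LinearMap.range_eq_map, ← b.span_eq, Submodule.map_span, Ideal.submodule_span_eq]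
    congr 1
    refine Set.ext fun v => ⟨?_, ?_⟩
    · rintro ⟨_, ⟨i', rfl⟩, rfl⟩
      rw [Subsingleton.elim i' i]
      rfl
    · rintro rfl
      exact ⟨b i, ⟨i, rfl⟩, rfl⟩

/-- A non-split extension of the maximal ideal by a free module of rank one is free. -/
theorem free_of_not_split (h2 : ringKrullDim R = 2) (f : W →ₗ[R] V) (g : V →ₗ[R] F)
    (hf : Function.Injective f) (hg : Function.Surjective g) (hfg : Function.Exact f g)
    (w : R ≃ₗ[R] W) (j : F →ₗ[R] R) (hj : Function.Injective j) (hr : LinearMap.range j = maximalIdeal R)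
    (hns : ¬ ∃ s : F →ₗ[R] V, g ∘ₗ s = LinearMap.id) : Nonempty (Module.Basis (Fin 2) R V) := by
  obtain ⟨x, y, hm, hxy, hx0, -⟩ := exists_params R h2
  haveI := CAlgH3.ufm_of_regular R
  have hxm : x ∈ maximalIdeal R := hm ▸ Ideal.subset_span (Set.mem_insert _ _)
  have hym : y ∈ maximalIdeal R := hm ▸ Ideal.subset_span (Set.mem_insert_of_mem _ rfl)
  obtain ⟨px, hpx⟩ : x ∈ LinearMap.range j := hr ▸ hxm
  obtain ⟨py, hpy⟩ : y ∈ LinearMap.range j := hr ▸ hym
  obtain ⟨v₁, hv₁⟩ := hg px
  obtain ⟨v₂, hv₂⟩ := hg py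
  obtain ⟨c, hc⟩ := (hfg (y • v₁ - x • v₂)).1 (hj (by
    rw [map_sub, map_smul, map_smul, hv₁, hv₂, map_sub, map_smul, map_smul, hpx, hpy, smul_eq_mul,
      smul_eq_mul, mul_comm, sub_self, map_zero]))
  obtain ⟨u, rfl⟩ := w.surjective c
  have hu : IsUnit u := by
    by_contra hu
    have hum : u ∈ Ideal.span {x, y} := hm ▸ (mem_maximalIdeal u).2 hu
    obtain ⟨α, β, hu'⟩ := Ideal.mem_span_pair.1 hum
    refine hns ?_
    let v₁' := v₁ - β • f (w 1)
    let v₂' := v₂ + α • f (w 1)
    have hrel : y • v₁' = x • v₂' := by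
      rw [← sub_eq_zero]
      have e : f (w u) = (α * x + β * y) • f (w 1) := by
        rw [hu', ← map_smul, ← map_smul, smul_eq_mul, mul_one]
      simp only [v₁', v₂', smul_sub, smul_add, smul_smul]
      rw [show y • v₁ - (y * β) • f (w 1) - (x • v₂ + (x * α) • f (w 1)) =
        (y • v₁ - x • v₂) - ((y * β) • f (w 1) + (x * α) • f (w 1)) by abel, ← hc, e, ← add_smul,
        sub_eq_zero]
      congr 1
      ring
    let φ : R × R →ₗ[R] V := (LinearMap.toSpanSingleton R V v₁').coprod (LinearMap.toSpanSingleton R V v₂')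
    let π : R × R →ₗ[R] F := (LinearMap.toSpanSingleton R F px).coprod (LinearMap.toSpanSingleton R F py)
    have hπ : Function.Surjective π := fun p => by
      have : j p ∈ Ideal.span {x, y} := by rw [← hm, ← hr]; exact ⟨p, rfl⟩
      obtain ⟨a, b, hab⟩ := Ideal.mem_span_pair.1 this
      refine ⟨(a, b), hj ?_⟩
      simp only [π, LinearMap.coprod_apply, LinearMap.toSpanSingleton_apply, map_add, map_smul, hpx, hpy,
        smul_eq_mul]
      exact hab
    have hker : LinearMap.ker π ≤ LinearMap.ker φ := by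
      rintro ⟨a, b⟩ hab
      have h0 : a * x + b * y = 0 := by
        have := congrArg j (LinearMap.mem_ker.1 hab)
        simpa [π, hpx, hpy] using this
      obtain ⟨t, rfl⟩ : x ∣ b := hxy.dvd_of_dvd_mul_right ⟨-a, by linear_combination h0⟩
      have ha : a = -(t * y) := mul_left_cancel₀ hx0 (by linear_combination h0)
      subst ha
      rw [LinearMap.mem_ker]
      simp only [φ, LinearMap.coprod_apply, LinearMap.toSpanSingleton_apply, neg_smul, mul_smul]
      rw [hrel, smul_comm t x, neg_add_cancel]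
    refine ⟨(LinearMap.ker π).liftQ φ hker ∘ₗ (π.quotKerEquivOfSurjective hπ).symm.toLinearMap, ?_⟩
    refine LinearMap.ext fun p => ?_
    obtain ⟨⟨a, b⟩, rfl⟩ := hπ p
    rw [LinearMap.comp_apply, LinearMap.comp_apply, LinearEquiv.coe_coe,
      show (π.quotKerEquivOfSurjective hπ).symm (π (a, b)) = Submodule.Quotient.mk (a, b) from
        (LinearEquiv.symm_apply_eq _).2 rfl, Submodule.liftQ_apply, LinearMap.id_apply]
    have hg1 : g (f (w 1)) = 0 := hfg.apply_apply_eq_zero _
    simp [φ, π, v₁', v₂', hg1, hv₁, hv₂]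
  let φ : R × R →ₗ[R] V := (LinearMap.toSpanSingleton R V v₁).coprod (LinearMap.toSpanSingleton R V v₂)
  obtain ⟨u', rfl⟩ := hu
  have hw1 : f (w 1) = ((u'⁻¹ : Rˣ) : R) • (y • v₁ - x • v₂) := by
    rw [← hc, ← map_smul, ← map_smul, smul_eq_mul, Units.inv_mul]
  have hφ : Function.Bijective φ := by
    refine ⟨(injective_iff_map_eq_zero φ).2 fun ⟨a, b⟩ hab => ?_, fun v => ?_⟩
    · have h0 : a * x + b * y = 0 := by
        have := congrArg (fun v => j (g v)) hab
        simpa [φ, hv₁, hv₂, hpx, hpy] using this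
      obtain ⟨t, rfl⟩ : x ∣ b := hxy.dvd_of_dvd_mul_right ⟨-a, by linear_combination h0⟩
      have ha : a = -(t * y) := mul_left_cancel₀ hx0 (by linear_combination h0)
      subst ha
      have : f (w ((-t) * u')) = 0 := by
        rw [← smul_eq_mul, map_smul, map_smul, hc, ← hab]
        simp only [φ, LinearMap.coprod_apply, LinearMap.toSpanSingleton_apply]
        module
      rw [← map_zero f] at this
      have ht := w.injective ((hf this).trans (map_zero w).symm)
      have ht' : t = 0 := by
        rcases mul_eq_zero.1 ht with h | h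
        · exact neg_eq_zero.1 h
        · exact absurd h u'.ne_zero
      subst ht'
      simp
    · have : j (g v) ∈ Ideal.span {x, y} := by rw [← hm, ← hr]; exact ⟨g v, rfl⟩
      obtain ⟨a, b, hab⟩ := Ideal.mem_span_pair.1 this
      obtain ⟨c, hc'⟩ := (hfg (v - φ (a, b))).1 (hj (by
        rw [map_sub, map_sub, map_zero, ← hab]
        simp [φ, hv₁, hv₂, hpx, hpy]))
      obtain ⟨r, rfl⟩ := w.surjective c
      refine ⟨(a + r * ((u'⁻¹ : Rˣ) : R) * y, b - r * ((u'⁻¹ : Rˣ) : R) * x), ?_⟩
      have : f (w r) = r • f (w 1) := by rw [← map_smul, ← map_smul, smul_eq_mul, mul_one]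
      rw [this, hw1] at hc'
      have hv : v = φ (a, b) + r • ((u'⁻¹ : Rˣ) : R) • (y • v₁ - x • v₂) := by
        rw [hc']; abel
      rw [hv]
      simp only [φ, LinearMap.coprod_apply, LinearMap.toSpanSingleton_apply]
      module
  exact ⟨((Module.Basis.ofEquivFun (LinearEquiv.finTwoArrow R R).symm).map (LinearEquiv.ofBijective φ hφ))⟩

end Ring

section Split

variable {C : Type*} [Category C] [Abelian C] [HasExt.{u} C]

/-- The class vanishes exactly when the projection has a section. -/
theorem extClass_eq_zero_iff {T : ShortComplex C} (hT : T.ShortExact) :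
    hT.extClass = 0 ↔ ∃ s : T.X₃ ⟶ T.X₂, s ≫ T.g = 𝟙 T.X₃ := by
  constructor
  · intro h
    obtain ⟨z, hz⟩ := Ext.covariant_sequence_exact₃ T.X₃ hT (Ext.mk₀ (𝟙 T.X₃)) (zero_add 1)
      (by rw [h, Ext.comp_zero])
    obtain ⟨s, rfl⟩ := (Ext.mk₀_bijective _ _).2 z
    rw [Ext.mk₀_comp_mk₀] at hz
    exact ⟨s, (Ext.mk₀_bijective _ _).1 hz⟩
  · rintro ⟨s, hs⟩
    rw [← Ext.mk₀_id_comp hT.extClass, ← hs, ← Ext.mk₀_comp_mk₀, Ext.comp_assoc_of_second_deg_zero,
      hT.comp_extClass, Ext.comp_zero]

/-- Composition with the class of a sequence with projective middle term is injective in degree one. -/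
theorem extClass_comp_injective {T : ShortComplex C} (hT : T.ShortExact) [Projective T.X₂] {W : C}
    (e : Ext T.X₁ W 1) (he : hT.extClass.comp e (by omega : 1 + 1 = 2) = 0) : e = 0 := by
  obtain ⟨z, hz⟩ := Ext.contravariant_sequence_exact₁ hT W e (n₁ := 2) (by omega) he
  rw [← hz, Ext.eq_zero_of_projective z, Ext.comp_zero]

end Split

end Groth.Agent.Mod22.CB
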