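import Groth.Agent.Mod22.CB.Algebra

/-!
# Extensions of a two-generated primary ideal of a two-dimensional regular local ring
-/

set_option autoImplicit false
set_option linter.style.haveILetI false
set_option linter.unusedSectionVars false
set_option maxHeartbeats 1000000

universe u

open CategoryTheory CategoryTheory.Abelian IsLocalRing

namespace Groth.Agent.Mod22.CB

section Ideal

variable {R : Type u} [CommRing R] [IsRegularLocalRing R] [IsDomain R]

/-- Two generators of a primary ideal have no common divisor. -/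
theorem relPrime_of_primary (h2 : ringKrullDim R = 2) {a b : R} {n : ℕ}
    (hn : maximalIdeal R ^ n ≤ Ideal.span {a, b}) : IsRelPrime a b := by
  obtain ⟨-, -, -, -, -, hne⟩ := exists_params R h2
  haveI := CAlgH3.ufm_of_regular R
  intro d hda hdb
  by_contra hd
  have hJd : Ideal.span {a, b} ≤ Ideal.span {d} := by
    rw [Ideal.span_le, Set.insert_subset_iff, Set.singleton_subset_iff]
    exact ⟨Ideal.mem_span_singleton.2 hda, Ideal.mem_span_singleton.2 hdb⟩
  by_cases h0 : d = 0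
  · subst h0
    refine hne 0 (le_antisymm ?_ ((Ideal.span_singleton_le_iff_mem _).2 (zero_mem _)))
    intro v hv
    have h1 := hJd (hn (Ideal.pow_mem_pow hv n))
    rw [Ideal.mem_span_singleton, zero_dvd_iff] at h1
    rw [Ideal.mem_span_singleton, zero_dvd_iff]
    exact eq_zero_of_pow_eq_zero h1
  · obtain ⟨p, hp, hpd⟩ := WfDvdMonoid.exists_irreducible_factor hd h0
    haveI hP : (Ideal.span {p}).IsPrime := (Ideal.span_singleton_prime hp.ne_zero).2 hp.prime
    refine hne p (le_antisymm ?_ ((Ideal.span_singleton_le_iff_mem _).2 hp.not_isUnit))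
    exact fun v hv => hP.mem_of_pow_mem n (Ideal.span_singleton_le_span_singleton.2 hpd (hJd (hn (Ideal.pow_mem_pow hv n))))

/-- A larger ideal meets the socle. -/
theorem exists_mem_socle {J K : Ideal R} {n : ℕ} (hn : maximalIdeal R ^ n ≤ J) {c₀ : R} (hc : c₀ ∈ K)
    (hc' : c₀ ∉ J) : ∃ c ∈ K, c ∉ J ∧ ∀ v ∈ maximalIdeal R, v * c ∈ J := by
  have h : ∃ i, maximalIdeal R ^ i * K ≤ J := ⟨n, le_trans (Ideal.mul_le_left (I := maximalIdeal R ^ n) (J := K)) hn⟩
  classical
  cases hi : Nat.find h with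
  | zero =>
    have := Nat.find_spec h
    rw [hi, pow_zero, Ideal.one_eq_top, Ideal.top_mul] at this
    exact absurd (this hc) hc'
  | succ i =>
    have h1 := Nat.find_spec h
    rw [hi, pow_succ', mul_assoc] at h1
    have h2 : ¬ maximalIdeal R ^ i * K ≤ J := Nat.find_min h (by omega)
    obtain ⟨c, hc, hc'⟩ := SetLike.not_le_iff_exists.1 h2
    have hcK : c ∈ K := Ideal.mul_le_right (I := maximalIdeal R ^ i) (J := K) hc
    exact ⟨c, hcK, hc', fun v hv => h1 (Ideal.mul_mem_mul hv hc)⟩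

/-- The socle of a complete intersection of finite length is cyclic. -/
theorem exists_socle (h2 : ringKrullDim R = 2) {a b : R} {n : ℕ}
    (hn : maximalIdeal R ^ n ≤ Ideal.span {a, b}) (hJ : Ideal.span {a, b} ≤ maximalIdeal R) :
    ∃ Δ : R, Δ ∉ Ideal.span {a, b} ∧ (∀ v ∈ maximalIdeal R, v * Δ ∈ Ideal.span {a, b}) ∧
      ∀ c : R, (∀ v ∈ maximalIdeal R, v * c ∈ Ideal.span {a, b}) → ∃ t : R, c - t * Δ ∈ Ideal.span {a, b} := by
  obtain ⟨x, y, hm, hxy, hx0, -⟩ := exists_params R h2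
  haveI := CAlgH3.ufm_of_regular R
  have hab := relPrime_of_primary h2 hn
  have ham : a ∈ maximalIdeal R := hJ (Ideal.subset_span (Set.mem_insert _ _))
  have hbm : b ∈ maximalIdeal R := hJ (Ideal.subset_span (Set.mem_insert_of_mem _ rfl))
  have ha0 : a ≠ 0 := by
    rintro rfl
    exact hbm (hab (dvd_zero b) dvd_rfl)
  obtain ⟨a₁, a₂, ha⟩ := Ideal.mem_span_pair.1 (hm ▸ ham)
  obtain ⟨b₁, b₂, hb⟩ := Ideal.mem_span_pair.1 (hm ▸ hbm)
  have hsoc : ∀ c : R, (∀ v ∈ maximalIdeal R, v * c ∈ Ideal.span {a, b}) →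
      ∃ t : R, c - t * (a₁ * b₂ - a₂ * b₁) ∈ Ideal.span {a, b} := by
    intro c hc
    obtain ⟨α, β, h₁⟩ := Ideal.mem_span_pair.1 (hc x (hm ▸ Ideal.subset_span (Set.mem_insert _ _)))
    obtain ⟨α', β', h₂⟩ := Ideal.mem_span_pair.1 (hc y (hm ▸ Ideal.subset_span (Set.mem_insert_of_mem _ rfl)))
    have h0 : (α * y - α' * x) * a + (β * y - β' * x) * b = 0 := by linear_combination y * h₁ - x * h₂
    obtain ⟨t', ht'⟩ : a ∣ β * y - β' * x :=
      hab.dvd_of_dvd_mul_right ⟨-(α * y - α' * x), by linear_combination h0⟩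
    have hα : α * y - α' * x = -t' * b := mul_left_cancel₀ ha0 (by linear_combination h0 - b * ht')
    obtain ⟨p, hp⟩ : x ∣ α + t' * b₂ :=
      hxy.dvd_of_dvd_mul_right ⟨α' - t' * b₁, by linear_combination hα + t' * hb⟩
    obtain ⟨q, hq⟩ : x ∣ β - t' * a₂ :=
      hxy.dvd_of_dvd_mul_right ⟨β' + t' * a₁, by linear_combination ht' - t' * ha⟩
    refine ⟨-t', Ideal.mem_span_pair.2 ⟨p, q, mul_left_cancel₀ hx0 ?_⟩⟩
    linear_combination h₁ - a * hp - b * hq + (-t' * b₂) * ha + (t' * a₂) * hb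
  refine ⟨a₁ * b₂ - a₂ * b₁, fun hΔ => ?_, fun v hv => ?_, hsoc⟩
  · obtain ⟨c, -, hc', hcs⟩ := exists_mem_socle hn (Submodule.mem_top : (1 : R) ∈ (⊤ : Ideal R))
      fun h1 => (maximalIdeal.isMaximal R).ne_top ((Ideal.eq_top_iff_one _).2 (hJ h1))
    obtain ⟨t, ht⟩ := hsoc c hcs
    exact hc' (by simpa using add_mem ht (Ideal.mul_mem_left _ t hΔ))
  · obtain ⟨r, s, hv'⟩ := Ideal.mem_span_pair.1 (hm ▸ hv)
    refine Ideal.mem_span_pair.2 ⟨r * b₂ - s * b₁, -(r * a₂) + s * a₁, ?_⟩
    linear_combination (a₁ * b₂ - a₂ * b₁) * hv' + (s * b₁ - r * b₂) * ha + (r * a₂ - s * a₁) * hb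

end Ideal

section Ext

variable {R : Type u} [CommRing R] [IsRegularLocalRing R] [IsDomain R]

/-- The residue field has no extension by a free module of rank one. -/
theorem subsingleton_ext_one_residue (h2 : ringKrullDim R = 2) {Q W : ModuleCat.{u} R}
    (hQ : ∀ v ∈ maximalIdeal R, ∀ q : Q, v • q = 0) (hcyc : ∃ q₀ : Q, ∀ q : Q, ∃ r : R, r • q₀ = q)
    [Nontrivial Q] (w : R ≃ₗ[R] W) : Subsingleton (Ext Q W 1) := by
  obtain ⟨x, y, hm, hxy, hx0, -⟩ := exists_params R h2
  haveI := CAlgH3.ufm_of_regular R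
  obtain ⟨q₀, hq₀⟩ := hcyc
  have hq₀0 : q₀ ≠ 0 := fun h0 => by
    obtain ⟨q, hq⟩ := exists_ne (0 : Q)
    obtain ⟨r, rfl⟩ := hq₀ q
    exact hq (by rw [h0, smul_zero])
  let T : ShortComplex (ModuleCat.{u} R) :=
    ShortComplex.mk (ModuleCat.ofHom (maximalIdeal R).subtype)
      (ModuleCat.ofHom (LinearMap.toSpanSingleton R Q q₀) : ModuleCat.of R R ⟶ Q)
      (ModuleCat.hom_ext (LinearMap.ext fun v => hQ v.1 v.2 q₀))
  have hT : T.ShortExact :=
    { exact := (ShortComplex.moduleCat_exact_iff _).2 fun v (hv : v • q₀ = 0) => by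
        by_cases hu : IsUnit v
        · exact absurd (hu.smul_eq_zero.1 hv) hq₀0
        · exact ⟨⟨v, hu⟩, rfl⟩
      mono_f := (ModuleCat.mono_iff_injective (ModuleCat.ofHom (maximalIdeal R).subtype)).2 Subtype.val_injective
      epi_g := (ModuleCat.epi_iff_surjective
        (ModuleCat.ofHom (LinearMap.toSpanSingleton R Q q₀) : ModuleCat.of R R ⟶ Q)).2 hq₀ }
  refine subsingleton_of_forall_eq 0 fun e => ?_
  haveI : Projective (ModuleCat.of R R) := (IsProjective.iff_projective (R := R) R).1 inferInstance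
  haveI : Projective T.X₂ := ‹Projective (ModuleCat.of R R)›
  obtain ⟨z, rfl⟩ := Ext.contravariant_sequence_exact₃ hT W e (Ext.eq_zero_of_projective _) (n₀ := 0) rfl
  obtain ⟨φ, rfl⟩ := (Ext.mk₀_bijective _ _).2 z
  have hxm : x ∈ maximalIdeal R := hm ▸ Ideal.subset_span (Set.mem_insert _ _)
  have hym : y ∈ maximalIdeal R := hm ▸ Ideal.subset_span (Set.mem_insert_of_mem _ rfl)
  let ψ : maximalIdeal R →ₗ[R] R := w.symm.toLinearMap ∘ₗ φ.hom
  have hψ : x * ψ ⟨y, hym⟩ = y * ψ ⟨x, hxm⟩ := by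
    rw [← smul_eq_mul x, ← smul_eq_mul y, ← map_smul, ← map_smul]
    exact congrArg ψ (Subtype.ext (mul_comm x y))
  obtain ⟨c, hc⟩ : x ∣ ψ ⟨x, hxm⟩ := hxy.dvd_of_dvd_mul_left ⟨ψ ⟨y, hym⟩, hψ.symm⟩
  have hall : ∀ v : maximalIdeal R, ψ v = v.1 * c := fun v => by
    have e : x * ψ v = v.1 * ψ ⟨x, hxm⟩ := by
      rw [← smul_eq_mul x, ← smul_eq_mul v.1, ← map_smul, ← map_smul]
      exact congrArg ψ (Subtype.ext (mul_comm x v.1))
    rw [hc] at e
    exact mul_left_cancel₀ hx0 (e.trans (mul_left_comm _ _ _))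
  have hφ : T.f ≫ ModuleCat.ofHom (w.toLinearMap ∘ₗ LinearMap.toSpanSingleton R R c) = φ :=
    ModuleCat.hom_ext (LinearMap.ext fun v => by
      show w ((v : R) • c) = φ.hom v
      refine (congrArg w (hall v).symm).trans ?_
      exact w.apply_symm_apply _)
  rw [← hφ, ← Ext.mk₀_comp_mk₀, hT.extClass_comp_assoc]

/-- **Local criterion**: the middle term of an extension of a primary ideal is free exactly when the
extension does not lift to the socle ideal. -/
theorem basis_iff_comp_ne_zero (h2 : ringKrullDim R = 2) {S T : ShortComplex (ModuleCat.{u} R)}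
    (hS : S.ShortExact) (hT : T.ShortExact) (hST : T.X₁ = S.X₃) (w : R ≃ₗ[R] S.X₁)
    (j : S.X₃ →ₗ[R] R) (hj : Function.Injective j) {a b : R} (hr : LinearMap.range j = Ideal.span {a, b})
    {n : ℕ} (hn : maximalIdeal R ^ n ≤ Ideal.span {a, b}) (hJ : Ideal.span {a, b} ≤ maximalIdeal R)
    (j' : T.X₂ →ₗ[R] R) (hj' : Function.Injective j')
    (hQ : ∀ v ∈ maximalIdeal R, ∀ q : T.X₃, v • q = 0) (hcyc : ∃ q₀ : T.X₃, ∀ q : T.X₃, ∃ r : R, r • q₀ = q)
    [Nontrivial T.X₃] :
    Nonempty (Module.Basis (Fin 2) R S.X₂) ↔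
      hT.extClass.comp ((Ext.mk₀ (eqToHom hST)).comp hS.extClass (zero_add 1)) (rfl : 1 + 1 = 2) ≠ 0 := by
  obtain ⟨x, y, hm, -, hx0, -⟩ := exists_params R h2
  have hxm : x ∈ maximalIdeal R := hm ▸ Ideal.subset_span (Set.mem_insert _ _)
  haveI := CAlgH3.ufm_of_regular R
  have hab := relPrime_of_primary h2 hn
  have ha0 : a ≠ 0 := by
    rintro rfl
    exact hJ (Ideal.subset_span (Set.mem_insert_of_mem _ rfl)) (hab (dvd_zero b) dvd_rfl)
  constructor
  · rintro ⟨B⟩ h0
    -- no extensions of the residue field by the middle term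
    haveI : Subsingleton (Ext T.X₃ S.X₂ 1) := by
      let U : ShortComplex (ModuleCat.{u} R) :=
        ShortComplex.mk (ModuleCat.ofHom (LinearMap.toSpanSingleton R S.X₂ (B 0)) : ModuleCat.of R R ⟶ S.X₂)
          (ModuleCat.ofHom (B.coord 1) : S.X₂ ⟶ ModuleCat.of R R)
          (ModuleCat.hom_ext (LinearMap.ext_ring (by simp)))
      have hU : U.ShortExact :=
        { exact := (ShortComplex.moduleCat_exact_iff _).2 fun v (hv : B.repr v 1 = 0) =>
            ⟨B.repr v 0, by
              show B.repr v 0 • B 0 = v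
              conv_rhs => rw [← B.sum_repr v, Fin.sum_univ_two, hv, zero_smul, add_zero]⟩
          mono_f := (ModuleCat.mono_iff_injective U.f).2 fun r r' h => by
            have := congrArg (fun v => B.repr v 0) (show r • B 0 = r' • B 0 from h)
            simpa using this
          epi_g := (ModuleCat.epi_iff_surjective U.g).2 fun r => ⟨r • B 1, by
            show B.repr (r • B 1) 1 = r
            simp⟩ }
      haveI := subsingleton_ext_one_residue h2 hQ hcyc (LinearEquiv.refl R R) (W := ModuleCat.of R R)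
      refine subsingleton_of_forall_eq 0 fun e => ?_
      have h0e : e.comp (Ext.mk₀ U.g) (add_zero 1) = 0 :=
        Subsingleton.elim (α := Ext T.X₃ (ModuleCat.of R R) 1) _ _
      obtain ⟨z, rfl⟩ := Ext.covariant_sequence_exact₂ T.X₃ hU e h0e
      rw [show z = 0 from Subsingleton.elim (α := Ext T.X₃ (ModuleCat.of R R) 1) _ _, Ext.zero_comp]
    obtain ⟨z, hz⟩ := Ext.covariant_sequence_exact₃ T.X₃ hS (hT.extClass.comp (Ext.mk₀ (eqToHom hST)) (add_zero 1))
      (n₁ := 2) rfl (by rw [Ext.comp_assoc_of_second_deg_zero]; exact h0)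
    rw [Subsingleton.elim z 0, Ext.zero_comp] at hz
    have hT0 : hT.extClass = 0 := by
      have := congrArg (fun t => t.comp (Ext.mk₀ (eqToHom hST.symm)) (add_zero 1)) hz
      simp only [Ext.zero_comp, Ext.comp_assoc_of_second_deg_zero, Ext.mk₀_comp_mk₀, eqToHom_trans, eqToHom_refl,
        Ext.comp_mk₀_id] at this
      exact this.symm
    obtain ⟨s, hs⟩ := (extClass_eq_zero_iff hT).1 hT0
    obtain ⟨q, hq⟩ := exists_ne (0 : T.X₃)
    refine hq ?_
    have hsq : x * j' (s.hom q) = 0 := by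
      rw [← smul_eq_mul, ← map_smul, ← map_smul, hQ x hxm q, map_zero, map_zero]
    have : s.hom q = 0 := hj' (((mul_eq_zero.1 hsq).resolve_left hx0).trans j'.map_zero.symm)
    have e := congrArg (fun t : T.X₃ ⟶ T.X₃ => t.hom q) hs
    simp only [ModuleCat.hom_comp, LinearMap.comp_apply, ModuleCat.hom_id, LinearMap.id_apply] at e
    rw [← e, this, map_zero]
  · intro hne
    obtain ⟨pa, hpa⟩ : a ∈ LinearMap.range j := hr ▸ Ideal.subset_span (Set.mem_insert _ _)
    obtain ⟨pb, hpb⟩ : b ∈ LinearMap.range j := hr ▸ Ideal.subset_span (Set.mem_insert_of_mem _ rfl)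
    obtain ⟨v₁, hv₁⟩ := hS.moduleCat_surjective_g pa
    obtain ⟨v₂, hv₂⟩ := hS.moduleCat_surjective_g pb
    have hSex := (ShortComplex.ShortExact.moduleCat_exact_iff_function_exact _).1 hS.exact
    obtain ⟨c, hc⟩ := (hSex (b • v₁ - a • v₂)).1 (hj (by
      rw [map_sub, map_smul, map_smul, hv₁, hv₂, map_sub, map_smul, map_smul, hpa, hpb, smul_eq_mul,
        smul_eq_mul, mul_comm, sub_self, map_zero]))
    let K : ShortComplex (ModuleCat.{u} R) :=
      ShortComplex.mk
        (ModuleCat.ofHom (LinearMap.toSpanSingleton R (R × R) (b, -a)) : ModuleCat.of R R ⟶ ModuleCat.of R (R × R))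
        (ModuleCat.ofHom ((LinearMap.toSpanSingleton R S.X₃ pa).coprod (LinearMap.toSpanSingleton R S.X₃ pb)) :
          ModuleCat.of R (R × R) ⟶ S.X₃)
        (ModuleCat.hom_ext (LinearMap.ext_ring (hj (by simp [hpa, hpb, mul_comm]))))
    have hK : K.ShortExact :=
      { exact := (ShortComplex.moduleCat_exact_iff _).2 fun v (hv : v.1 • pa + v.2 • pb = 0) => by
          have h0 : v.1 * a + v.2 * b = 0 := by
            have := congrArg j hv
            simpa [hpa, hpb] using this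
          obtain ⟨t, ht⟩ : a ∣ v.2 := hab.dvd_of_dvd_mul_right ⟨-v.1, by linear_combination h0⟩
          refine ⟨-t, ?_⟩
          show (-t) • ((b, -a) : R × R) = v
          refine Prod.ext (mul_left_cancel₀ ha0 ?_) ?_
          · show a * ((-t) * b) = a * v.1
            linear_combination (-1 : R) * h0 + b * ht
          · show (-t) * (-a) = v.2
            rw [ht]; ring
        mono_f := (ModuleCat.mono_iff_injective K.f).2 fun r r' h => by
          have e := congrArg Prod.snd (show r • ((b, -a) : R × R) = r' • (b, -a) from h)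
          exact mul_right_cancel₀ (neg_ne_zero.2 ha0) e
        epi_g := (ModuleCat.epi_iff_surjective K.g).2 fun p => by
          have hp : j p ∈ Ideal.span {a, b} := by rw [← hr]; exact LinearMap.mem_range_self j p
          obtain ⟨α, β, hαβ⟩ := Ideal.mem_span_pair.1 hp
          exact ⟨(α, β), hj (by
            show j (α • pa + β • pb) = j p
            rw [map_add, map_smul, map_smul, hpa, hpb]; exact hαβ)⟩ }
    let τ : K ⟶ S :=
      { τ₁ := ModuleCat.ofHom (LinearMap.toSpanSingleton R S.X₁ c)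
        τ₂ := ModuleCat.ofHom ((LinearMap.toSpanSingleton R S.X₂ v₁).coprod (LinearMap.toSpanSingleton R S.X₂ v₂))
        τ₃ := 𝟙 _
        comm₁₂ := ModuleCat.hom_ext (LinearMap.ext_ring (by
          show S.f.hom ((1 : R) • c) = ((1 : R) • ((b, -a) : R × R)).1 • v₁ + ((1 : R) • ((b, -a) : R × R)).2 • v₂
          simp only [one_smul, neg_smul, ← sub_eq_add_neg]
          exact hc))
        comm₂₃ := ModuleCat.hom_ext (LinearMap.ext fun v => by
          show S.g.hom (v.1 • v₁ + v.2 • v₂) = v.1 • pa + v.2 • pb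
          rw [map_add, map_smul, map_smul]
          exact congrArg₂ (fun p q => v.1 • p + v.2 • q) hv₁ hv₂) }
    have hnat := ShortComplex.ShortExact.extClass_naturality hK hS τ
    rw [show τ.τ₃ = 𝟙 K.X₃ from rfl, Ext.mk₀_id_comp] at hnat
    obtain ⟨u, hu⟩ := w.surjective c
    by_cases hu' : IsUnit u
    · haveI : IsIso τ.τ₁ := (ConcreteCategory.isIso_iff_bijective τ.τ₁).2 ⟨fun r r' h => by
          have h' : r • c = r' • c := h
          rw [← hu, ← map_smul, ← map_smul] at h'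
          exact mul_right_cancel₀ hu'.ne_zero (w.injective h'),
        fun z => by
          obtain ⟨r, rfl⟩ := w.surjective z
          obtain ⟨u', rfl⟩ := hu'
          refine ⟨r * ((u'⁻¹ : Rˣ) : R), ?_⟩
          show (r * ((u'⁻¹ : Rˣ) : R)) • c = w r
          rw [← hu, ← map_smul, smul_eq_mul, mul_assoc, Units.inv_mul, mul_one]⟩
      haveI : IsIso τ.τ₃ := inferInstanceAs (IsIso (𝟙 S.X₃))
      haveI : IsIso τ.τ₂ := ShortComplex.isIso₂_of_shortExact_of_isIso₁₃ τ hK hS
      exact ⟨(Module.Basis.ofEquivFun (LinearEquiv.finTwoArrow R R).symm).map (asIso τ.τ₂).toLinearEquiv⟩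
    · refine absurd ?_ hne
      have hτ : τ.τ₁ = u • ModuleCat.ofHom w.toLinearMap := ModuleCat.hom_ext (LinearMap.ext_ring (by
        show (1 : R) • c = u • w 1
        rw [one_smul, ← map_smul, smul_eq_mul, mul_one, hu]))
      rw [← hnat, hτ, Ext.mk₀_smul, Ext.comp_smul, Ext.comp_smul, Ext.comp_smul]
      generalize hT.extClass.comp ((Ext.mk₀ (eqToHom hST)).comp (hK.extClass.comp
        (Ext.mk₀ (ModuleCat.ofHom w.toLinearMap : K.X₁ ⟶ S.X₁)) (add_zero 1)) (zero_add 1)) (rfl : 1 + 1 = 2) = Y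
      rw [← Ext.mk₀_id_comp Y, ← Ext.smul_comp, ← Ext.mk₀_smul,
        show u • 𝟙 T.X₃ = 0 from ModuleCat.hom_ext (LinearMap.ext fun q => hQ u hu' q), Ext.mk₀_zero, Ext.zero_comp]

end Ext

end Groth.Agent.Mod22.CB
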