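import Groth.Agent.Mod22.CB.Setup
import Groth.Agent.Mod22.CB.LciAlgebra
import Groth.Agent.RamDiv8.Main
import Groth.Agent.SDiv28.CartierPart
import Groth.Agent.DivCurve29.Colon
import Groth.Agent.CurveRR24.PointInv
import Groth.Agent.ZeroSchLib.Basic

/-!
# Ideals with finite support and their minimal enlargements
-/

set_option autoImplicit false
set_option linter.style.haveILetI false
set_option backward.isDefEq.respectTransparency false
set_option backward.isDefEq.respectTransparency.types false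
set_option maxHeartbeats 1000000

universe u

open CategoryTheory CategoryTheory.Abelian CategoryTheory.Limits AlgebraicGeometry Opposite TopologicalSpace
open Groth.Agent.Coherent Groth.Agent.PicLib Groth.Agent.AmpleLib Groth.Agent.EulerLib
open Groth.Agent.Misc15.DivDescent
open IsLocalRing

namespace Groth.Agent.Mod22.CB

variable {X : Scheme.{u}}

local notation "St" => DerSch.stalkFunctor X

theorem le_iff_stk {I J : X.IdealSheafData} : I ≤ J ↔ ∀ x, stk I x ≤ stk J x :=
  ⟨fun h x => by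
    obtain ⟨_, ⟨U, hU, rfl⟩, hxU, -⟩ := X.isBasis_affineOpens.exists_subset_of_mem_open (Set.mem_univ x) isOpen_univ
    rw [stk_eq I ⟨U, hU⟩ hxU, stk_eq J ⟨U, hU⟩ hxU]
    exact Ideal.map_mono (h _),
  fun h U c hc => (mem_ideal_iff J U).2 fun x hx => h x ((mem_ideal_iff I U).1 hc x hx)⟩

/-- In an invertible module, `r • g ∈ J • ⊤` iff `r ∈ J` for a generator `g`. -/
theorem smul_mem_iff {R M : Type u} [CommRing R] [AddCommGroup M] [Module R M] (J : Ideal R) {g : M}
    (hb : Function.Bijective fun r : R => r • g) (r : R) : r • g ∈ J • (⊤ : Submodule R M) ↔ r ∈ J := by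
  refine ⟨fun h => ?_, fun h => Submodule.smul_mem_smul h trivial⟩
  have hle : J • (⊤ : Submodule R M) ≤ Submodule.map (LinearMap.toSpanSingleton R M g) J :=
    Submodule.smul_le.2 fun s hs v _ => by
      obtain ⟨t, rfl⟩ := hb.2 v
      exact ⟨s * t, J.mul_mem_right _ hs, mul_smul s t g⟩
  obtain ⟨s, hs, hsg⟩ := hle h
  rwa [← hb.1 hsg]

/-- Sections of `A ⊗ I` are the sections of `A` with zero scheme containing that of `I`. -/
theorem exists_lift_iff_le {A : X.Modules} (hA : PicF.IsInvertible A) (I : X.IdealSheafData)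
    (σ : Coh.structureModule X ⟶ A) :
    (∃ g, g ≫ RamDiv8.twistIncl A I = σ) ↔ PicF2.zeroScheme A σ ≤ I := by
  obtain ⟨hm, hr⟩ := RamDiv8.twistIncl_spec hA I
  haveI := hm
  let v : ∀ x, (St x).obj A := fun x => A.presheaf.germ ⊤ x trivial (unitVal σ ⊤)
  have hσ : ∀ x c, (St x).map σ (SDiv28.unitStalkEquiv x c) = c • v x :=
    fun x c => by
      conv_lhs => rw [← unitDesc_unitVal σ]
      exact InjMod14.stalk_unitDesc _ _ _ _
  have hmem : ∀ x, v x ∈ stk I x • (⊤ : Submodule (X.presheaf.stalk x) ((St x).obj A)) ↔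
      stk (PicF2.zeroScheme A σ) x ≤ stk I x := fun x => by
    obtain ⟨U₀, hx₀, e₀, he₀⟩ := exists_isGen hA x
    obtain ⟨V, hV, hxV, hVU⟩ := exists_isAffineOpen_mem_and_subset (x := x) (U := U₀) hx₀
    have he := he₀.restrict (show V ≤ U₀ from hVU)
    let c := he.coef le_rfl (unitVal σ V)
    rw [stk_span _ ⟨V, hV⟩ (ZeroSchLib.zeroScheme_ideal_eq_span σ hA ⟨V, hV⟩ he) hxV,
      Ideal.span_singleton_le_iff_mem]
    have hv : v x = X.presheaf.germ V x hxV c • A.presheaf.germ V x hxV (resM A hVU e₀) := by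
      rw [← QCohLoc.germ_smul' (M := A) hxV]
      have h2 := he.coef_spec le_rfl (unitVal σ V)
      rw [resM_self] at h2
      refine Eq.trans ?_ (congrArg _ h2.symm)
      show A.presheaf.germ ⊤ x trivial (unitVal σ ⊤) = _
      rw [← A.presheaf.germ_res_apply (homOfLE (le_top (a := V))) x hxV]
      exact congrArg _ (resM_unitVal _ _)
    rw [hv]
    exact smul_mem_iff _ (VarietyLib.gen_germ_bijective he hxV) _
  rw [le_iff_stk]
  simp only [← hmem]
  constructor
  · rintro ⟨g, rfl⟩ x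
    rw [← hr x]
    refine ⟨(St x).map g (SDiv28.unitStalkEquiv x 1), ?_⟩
    refine Eq.trans ?_ ((hσ x 1).trans (one_smul _ _))
    rw [Functor.map_comp]; rfl
  · intro h
    refine exists_factor (RamDiv8.twistIncl A I) σ fun x => ?_
    rw [hr x]
    rintro _ ⟨w, rfl⟩
    obtain ⟨c, rfl⟩ := (SDiv28.unitStalkEquiv x).surjective w
    exact Eq.subst (motive := fun t => t ∈ stk I x • (⊤ : Submodule (X.presheaf.stalk x) ((St x).obj A)))
      (hσ x c).symm (Submodule.smul_mem _ c (h x))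

/-- In a Jacobson space the points of a finite closed set are closed. -/
theorem isClosed_singleton_of_finite [JacobsonSpace X] {S : Set X} (hS : IsClosed S) (hfin : S.Finite) {x : X}
    (hx : x ∈ S) : IsClosed ({x} : Set X) := by
  have hsub : closure ({x} : Set X) ⊆ S := closure_minimal (Set.singleton_subset_iff.2 hx) hS
  have h := JacobsonSpace.closure_inter_closedPoints (isClosed_closure (s := ({x} : Set X)))
  have hcl : IsClosed (closure ({x} : Set X) ∩ closedPoints X) := by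
    rw [← Set.biUnion_of_singleton (closure ({x} : Set X) ∩ closedPoints X)]
    exact ((hfin.subset hsub).subset Set.inter_subset_left).isClosed_biUnion fun z hz => hz.2
  rw [hcl.closure_eq] at h
  exact (h.ge (subset_closure rfl : x ∈ closure ({x} : Set X))).2

/-- At an isolated point of the support the stalk of the ideal contains a power of the maximal ideal. -/
theorem exists_pow_le_stk [IsLocallyNoetherian X] (I : X.IdealSheafData)
    (hpts : ∀ y ∈ I.support, IsClosed ({y} : Set X)) {x : X} :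
    ∃ n : ℕ, maximalIdeal (X.presheaf.stalk x) ^ n ≤ stk I x := by
  refine Ideal.exists_pow_le_of_le_radical_of_fg ?_ (IsNoetherian.noetherian _)
  rw [Ideal.radical_eq_sInf]
  refine le_sInf fun q hq => ?_
  haveI := hq.2
  obtain ⟨U, hU, hxU, -⟩ := exists_isAffineOpen_mem_and_subset (x := x) (U := (⊤ : X.Opens)) trivial
  letI := (X.presheaf.germ U x hxU).hom.toAlgebra
  haveI := hU.isLocalization_stalk ⟨x, hxU⟩
  let p := Ideal.comap (algebraMap Γ(X, U) (X.presheaf.stalk x)) q
  let y := hU.fromSpec ⟨p, inferInstance⟩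
  have hyU : y ∈ U := hU.range_fromSpec.subset ⟨_, rfl⟩
  have hpy : hU.primeIdealOf ⟨y, hyU⟩ = ⟨p, inferInstance⟩ :=
    hU.fromSpec.isOpenEmbedding.injective (hU.fromSpec_primeIdealOf ⟨y, hyU⟩)
  have hIp : I.ideal ⟨U, hU⟩ ≤ p := fun c hc => Ideal.mem_comap.2 (hq.1 (by
    rw [stk_eq I ⟨U, hU⟩ hxU]; exact Ideal.mem_map_of_mem _ hc))
  have hy : y ∈ I.support := by
    rw [Scheme.IdealSheafData.mem_support_iff_of_mem (U := ⟨U, hU⟩) hyU, Scheme.mem_zeroLocus_iff]
    intro c hc hyc
    obtain ⟨p', hp', hp''⟩ := (hU.fromSpec_image_basicOpen c).ge hyc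
    rw [hU.fromSpec.isOpenEmbedding.injective hp''] at hp'
    exact hp' (hIp hc)
  haveI hmax : p.IsMaximal := by
    have := hU.primeIdealOf_isMaximal_of_isClosed ⟨y, hyU⟩ (hpts y hy)
    rwa [hpy] at this
  have hle : p ≤ (hU.primeIdealOf ⟨x, hxU⟩).asIdeal := fun c hc => by
    by_contra hc'
    exact hq.2.ne_top (Ideal.eq_top_of_isUnit_mem _ (Ideal.mem_comap.1 hc)
      (IsLocalization.map_units (X.presheaf.stalk x) (⟨c, hc'⟩ : (hU.primeIdealOf ⟨x, hxU⟩).asIdeal.primeCompl)))
  have heq := hmax.eq_of_le (hU.primeIdealOf ⟨x, hxU⟩).2.ne_top hle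
  rw [← IsLocalization.AtPrime.map_eq_maximalIdeal (hU.primeIdealOf ⟨x, hxU⟩).asIdeal (X.presheaf.stalk x), ← heq]
  exact Ideal.map_comap_le

variable [IsLocallyNoetherian X]

/-- The ideal enlarged by the socle at one point. -/
noncomputable def socI (I : X.IdealSheafData) (z : X) (hz : IsClosed ({z} : Set X)) : X.IdealSheafData :=
  DivCurve29.colonSheaf I (Scheme.IdealSheafData.vanishingIdeal ⟨{z}, hz⟩) fun U => by
    haveI : IsNoetherianRing Γ(X, U) := IsLocallyNoetherian.component_noetherian U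
    exact IsNoetherian.noetherian _

theorem stk_pt_self {z : X} (hz : IsClosed ({z} : Set X)) :
    stk (Scheme.IdealSheafData.vanishingIdeal ⟨{z}, hz⟩) z = maximalIdeal (X.presheaf.stalk z) := by
  obtain ⟨U, hU, hzU, -⟩ := exists_isAffineOpen_mem_and_subset (x := z) (U := (⊤ : X.Opens)) trivial
  letI := (X.presheaf.germ U z hzU).hom.toAlgebra
  haveI := hU.isLocalization_stalk ⟨z, hzU⟩
  rw [stk_eq _ ⟨U, hU⟩ hzU]
  have h : (Scheme.IdealSheafData.vanishingIdeal ⟨{z}, hz⟩).ideal ⟨U, hU⟩ =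
      (hU.primeIdealOf ⟨z, hzU⟩).asIdeal := by
    rw [Scheme.IdealSheafData.vanishingIdeal_ideal]
    refine Ideal.ext fun c => ?_
    rw [PrimeSpectrum.mem_vanishingIdeal]
    refine ⟨fun h => h _ (hU.fromSpec_primeIdealOf ⟨z, hzU⟩), fun h q hq => ?_⟩
    rw [hU.fromSpec.isOpenEmbedding.injective ((hq : hU.fromSpec q = z).trans (hU.fromSpec_primeIdealOf ⟨z, hzU⟩).symm)]
    exact h
  rw [h]
  exact IsLocalization.AtPrime.map_eq_maximalIdeal _ _

theorem stk_socI_ne (I : X.IdealSheafData) {z x : X} (hz : IsClosed ({z} : Set X)) (hx : x ≠ z) :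
    stk (socI I z hz) x = stk I x := by
  refine le_antisymm (fun r hr => ?_) ?_
  · obtain ⟨U, hU, hxU, -⟩ := exists_isAffineOpen_mem_and_subset (x := x) (U := (⊤ : X.Opens)) trivial
    have hP : stk (Scheme.IdealSheafData.vanishingIdeal ⟨{z}, hz⟩) x = ⊤ :=
      SDiv28.CartierPart.stk_eq_top fun h => hx (by
        rwa [← SetLike.mem_coe, Scheme.IdealSheafData.coe_support_vanishingIdeal] at h)
    have hle : stk (socI I z hz) x * stk (Scheme.IdealSheafData.vanishingIdeal ⟨{z}, hz⟩) x ≤ stk I x := by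
      rw [stk_eq _ ⟨U, hU⟩ hxU, stk_eq _ ⟨U, hU⟩ hxU, stk_eq _ ⟨U, hU⟩ hxU, ← Ideal.map_mul]
      exact Ideal.map_mono (Ideal.mul_le.2 fun c hc e he => Submodule.mem_colon.1 hc e he)
    rw [hP, Ideal.mul_top] at hle
    exact hle hr
  · obtain ⟨U, hU, hxU, -⟩ := exists_isAffineOpen_mem_and_subset (x := x) (U := (⊤ : X.Opens)) trivial
    rw [stk_eq _ ⟨U, hU⟩ hxU, stk_eq _ ⟨U, hU⟩ hxU]
    exact Ideal.map_mono fun c hc => Submodule.mem_colon.2 fun e _ => Ideal.mul_mem_right e _ hc

theorem mem_stk_socI (I : X.IdealSheafData) {z : X} (hz : IsClosed ({z} : Set X)) (r : X.presheaf.stalk z) :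
    r ∈ stk (socI I z hz) z ↔ ∀ v ∈ maximalIdeal (X.presheaf.stalk z), v * r ∈ stk I z := by
  obtain ⟨U, hU, hzU, -⟩ := exists_isAffineOpen_mem_and_subset (x := z) (U := (⊤ : X.Opens)) trivial
  letI := (X.presheaf.germ U z hzU).hom.toAlgebra
  haveI := hU.isLocalization_stalk ⟨z, hzU⟩
  let P := Scheme.IdealSheafData.vanishingIdeal (X := X) ⟨{z}, hz⟩
  have hm := stk_pt_self hz
  rw [stk_eq _ ⟨U, hU⟩ hzU] at hm
  rw [stk_eq _ ⟨U, hU⟩ hzU, stk_eq _ ⟨U, hU⟩ hzU, ← hm]
  constructor
  · intro hr v hv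
    have hle : ((socI I z hz).ideal ⟨U, hU⟩).map (X.presheaf.germ U z hzU).hom *
        (P.ideal ⟨U, hU⟩).map (X.presheaf.germ U z hzU).hom ≤ (I.ideal ⟨U, hU⟩).map (X.presheaf.germ U z hzU).hom := by
      rw [← Ideal.map_mul]
      exact Ideal.map_mono (Ideal.mul_le.2 fun c hc e he => Submodule.mem_colon.1 hc e he)
    rw [mul_comm]
    exact hle (Ideal.mul_mem_mul hr hv)
  · intro h
    obtain ⟨⟨c, s⟩, hcs⟩ := IsLocalization.surj (hU.primeIdealOf ⟨z, hzU⟩).asIdeal.primeCompl r
    haveI : IsNoetherianRing Γ(X, U) := IsLocallyNoetherian.component_noetherian ⟨U, hU⟩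
    obtain ⟨m, e, he⟩ := Submodule.fg_iff_exists_fin_generating_family.1 (IsNoetherian.noetherian (P.ideal ⟨U, hU⟩))
    have ht : ∀ i, ∃ t ∈ (hU.primeIdealOf ⟨z, hzU⟩).asIdeal.primeCompl, t * (c * e i) ∈ I.ideal ⟨U, hU⟩ := fun i => by
      refine (IsLocalization.algebraMap_mem_map_algebraMap_iff _ (X.presheaf.stalk z) _ _).1 ?_
      rw [map_mul, ← hcs]
      have h1 := h _ (Ideal.mem_map_of_mem (X.presheaf.germ U z hzU).hom (he.le (Submodule.subset_span ⟨i, rfl⟩)))
      have h2 := Ideal.mul_mem_right (algebraMap Γ(X, U) (X.presheaf.stalk z) (s : Γ(X, U))) _ h1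
      have e' : r * algebraMap Γ(X, U) (X.presheaf.stalk z) (s : Γ(X, U)) * algebraMap Γ(X, U) (X.presheaf.stalk z) (e i) =
          algebraMap Γ(X, U) (X.presheaf.stalk z) (e i) * r * algebraMap Γ(X, U) (X.presheaf.stalk z) (s : Γ(X, U)) := by
        ring
      exact Eq.subst (motive := fun t => t ∈ _) e'.symm h2
    choose t ht ht' using ht
    let T := ∏ i, t i
    have hT : T ∈ (hU.primeIdealOf ⟨z, hzU⟩).asIdeal.primeCompl := Submonoid.prod_mem _ fun i _ => ht i
    have hmem : T * c ∈ (socI I z hz).ideal ⟨U, hU⟩ := by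
      refine Submodule.mem_colon.2 fun p hp => ?_
      have hp' : p ∈ Submodule.span Γ(X, U) (Set.range e) := he.ge hp
      refine Submodule.span_induction ?_ ?_ ?_ ?_ hp'
      · rintro _ ⟨i, rfl⟩
        obtain ⟨w, hw⟩ := Finset.dvd_prod_of_mem t (Finset.mem_univ i)
        show T * c * e i ∈ I.ideal ⟨U, hU⟩
        rw [show T = t i * w from hw, show t i * w * c * e i = w * (t i * (c * e i)) by ring]
        exact Ideal.mul_mem_left _ _ (ht' i)
      · simp
      · intro u v _ _ hu hv; rw [smul_add]; exact add_mem hu hv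
      · intro a u _ hu; rw [smul_comm]; exact Submodule.smul_mem _ a hu
    have hu : IsUnit (algebraMap Γ(X, U) (X.presheaf.stalk z) (T * s)) :=
      IsLocalization.map_units _ (⟨T * s, mul_mem hT s.2⟩ : (hU.primeIdealOf ⟨z, hzU⟩).asIdeal.primeCompl)
    refine (Ideal.mul_unit_mem_iff_mem _ hu).1 ?_
    rw [map_mul, mul_left_comm, hcs, ← map_mul]
    exact Ideal.mem_map_of_mem _ hmem

end Groth.Agent.Mod22.CB
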