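import Groth.Agent.Mod22.CB.Main
import Groth.Agent.Mod22.CB.LciSetup

/-!
# Cayley–Bacharach and locally free extensions, for local complete intersections
-/

set_option autoImplicit false
set_option linter.style.haveILetI false
set_option linter.unusedSectionVars false
set_option backward.isDefEq.respectTransparency.types false
set_option maxHeartbeats 1000000

universe u

open CategoryTheory CategoryTheory.Abelian CategoryTheory.Limits AlgebraicGeometry Opposite TopologicalSpace
open Groth.Agent.Coherent Groth.Agent.PicLib Groth.Agent.AmpleLib Groth.Agent.EulerLib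
open Groth.Agent.Misc15.DivDescent
open IsLocalRing

namespace Groth.Agent.Mod22.CB

variable {X : Scheme.{u}}

local notation "St" => DerSch.stalkFunctor X

/-- The quotient of an enlargement by one socle element is a point module. -/
theorem pointMod_cokernel_of_soc [IsLocallyNoetherian X] {A : X.Modules} (hA : PicF.IsInvertible A)
    (I I' : X.IdealSheafData) {z : X} (hz : IsClosed ({z} : Set X))
    (hne : ∀ y, y ≠ z → stk I' y = stk I y) {Δ : X.presheaf.stalk z} (hΔ : Δ ∈ stk I' z) (hΔ' : Δ ∉ stk I z)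
    (hsoc : ∀ v ∈ maximalIdeal (X.presheaf.stalk z), ∀ r ∈ stk I' z, v * r ∈ stk I z)
    (hgen : ∀ r ∈ stk I' z, ∃ t, r - t * Δ ∈ stk I z)
    (j : CohB1.tensorMod A (ClSub.idealMod I) ⟶ CohB1.tensorMod A (ClSub.idealMod I'))
    (hj : j ≫ RamDiv8.twistIncl A I' = RamDiv8.twistIncl A I) :
    PointMod z (cokernel j) ∧ Nontrivial ((St z).obj (cokernel j)) := by
  obtain ⟨hm', hr'⟩ := RamDiv8.twistIncl_spec hA I'
  obtain ⟨hm, hr⟩ := RamDiv8.twistIncl_spec hA I
  haveI := hm'
  have hinj : ∀ y, Function.Injective ((St y).map (RamDiv8.twistIncl A I')) := fun y =>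
    (ModuleCat.mono_iff_injective _).1 inferInstance
  have hcomp : ∀ y v, (St y).map (RamDiv8.twistIncl A I') ((St y).map j v) = (St y).map (RamDiv8.twistIncl A I) v :=
    fun y v => by rw [← ModuleCat.comp_apply, ← Functor.map_comp, hj]
  have hπ : ∀ y, Function.Surjective ((St y).map (cokernel.π j)) := fun y =>
    (ModuleCat.epi_iff_surjective _).1 inferInstance
  have hker : ∀ y v, (St y).map (cokernel.π j) ((St y).map j v) = 0 := fun y v => by
    rw [← ModuleCat.comp_apply, ← Functor.map_comp, cokernel.condition, Functor.map_zero]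
    rfl
  have hlift : ∀ y v, (St y).map (RamDiv8.twistIncl A I') v ∈
      stk I y • (⊤ : Submodule (X.presheaf.stalk y) ((St y).obj A)) → (St y).map (cokernel.π j) v = 0 := fun y v hv => by
    rw [← hr y] at hv
    obtain ⟨w, hw⟩ := hv
    rw [show v = (St y).map j w from hinj y (hw.symm.trans (hcomp y w).symm)]
    exact hker y w
  have hoff : ∀ y, y ≠ z → Subsingleton ((St y).obj (cokernel j)) := fun y hy => by
    refine subsingleton_of_forall_eq 0 fun q => ?_
    obtain ⟨v, rfl⟩ := hπ y q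
    refine hlift y v ?_
    rw [← hne y hy, ← hr' y]
    exact ⟨v, rfl⟩
  obtain ⟨U, hzU, g, hg⟩ := exists_isGen hA z
  have hb := VarietyLib.gen_germ_bijective hg hzU
  let e₀ : (St z).obj A := A.presheaf.germ U z hzU g
  have hv : ∀ v, ∃ r ∈ stk I' z, r • e₀ = (St z).map (RamDiv8.twistIncl A I') v := fun v => by
    obtain ⟨r, hr1⟩ := hb.2 ((St z).map (RamDiv8.twistIncl A I') v)
    refine ⟨r, (smul_mem_iff _ hb r).1 ?_, hr1⟩
    exact Eq.subst (motive := fun t => t ∈ stk I' z • (⊤ : Submodule (X.presheaf.stalk z) ((St z).obj A)))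
      hr1.symm ((hr' z).le ⟨v, rfl⟩)
  have hann : ∀ a ∈ maximalIdeal (X.presheaf.stalk z), ∀ q : (St z).obj (cokernel j), a • q = 0 := fun a ha q => by
    obtain ⟨v, rfl⟩ := hπ z q
    obtain ⟨r, hrI, hre⟩ := hv v
    refine (((St z).map (cokernel.π j)).hom.map_smul a v).symm.trans (hlift z _ ?_)
    rw [show (St z).map (RamDiv8.twistIncl A I') (a • v) = (a * r) • e₀ from
      (((St z).map (RamDiv8.twistIncl A I')).hom.map_smul a v).trans (by rw [mul_smul, hre])]
    exact Submodule.smul_mem_smul (hsoc a ha r hrI) trivial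
  obtain ⟨v₀, hv₀⟩ : Δ • e₀ ∈ LinearMap.range ((St z).map (RamDiv8.twistIncl A I')).hom := by
    rw [hr' z]; exact Submodule.smul_mem_smul hΔ trivial
  have hq : ∀ q : (St z).obj (cokernel j), ∃ t : X.presheaf.stalk z, t • (St z).map (cokernel.π j) v₀ = q := fun q => by
    obtain ⟨v, rfl⟩ := hπ z q
    obtain ⟨r, hrI, hre⟩ := hv v
    obtain ⟨t, ht⟩ := hgen r hrI
    refine ⟨t, ?_⟩
    rw [← map_smul, ← sub_eq_zero, ← map_sub]
    refine hlift z _ ?_
    rw [show (St z).map (RamDiv8.twistIncl A I') (t • v₀ - v) = (-(r - t * Δ)) • e₀ by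
      rw [map_sub, map_smul, ← hre, show (St z).map (RamDiv8.twistIncl A I') v₀ = Δ • e₀ from hv₀,
        neg_sub, sub_smul, mul_smul]]
    exact Submodule.smul_mem_smul (neg_mem ht) trivial
  obtain ⟨s, hs, -⟩ := exists_section_point (cokernel j) hz ((St z).map (cokernel.π j) v₀)
    fun a ha => hann a ha _
  refine ⟨⟨hz, hoff, hann, unitDesc _ s, epi_of_stalk _ fun y => ?_⟩, ?_⟩
  · refine (ModuleCat.epi_iff_surjective _).2 fun q => ?_
    by_cases hy : y = z
    · subst hy
      obtain ⟨c, hc⟩ := hq q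
      exact ⟨SDiv28.unitStalkEquiv y c, by rw [InjMod14.stalk_unitDesc, hs]; exact hc⟩
    · haveI := hoff y hy
      exact ⟨0, Subsingleton.elim _ _⟩
  · refine nontrivial_of_ne ((St z).map (cokernel.π j) v₀) 0 fun h0 => hΔ' ?_
    obtain ⟨w, hw⟩ := (ShortComplex.moduleCat_exact_iff _).1 ((ShortComplex.exact_cokernel j).map (St z)) v₀ h0
    refine (smul_mem_iff _ hb Δ).1 ?_
    exact (hr z).le ⟨w, (hcomp z w).symm.trans ((congrArg _ hw).trans hv₀)⟩

variable (k : Type u) [Field k] [IsAlgClosed k] [X.Over (Spec (CommRingCat.of k))]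
  [IsProper (X ↘ Spec (CommRingCat.of k))] [IsIntegral X] [Smooth (X ↘ Spec (CommRingCat.of k))]

/-- **Cayley–Bacharach** for local complete intersections of finite length. -/
theorem exists_extension_iff_lci (hX : topologicalKrullDim X = ((2 : ℕ) : WithBot ℕ∞))
    {W : X.Modules} (hW : ExtPow.IsExtPow 2 (Omega.sheaf (X ↘ Spec (CommRingCat.of k))) W)
    (hWi : PicF.IsInvertible W) {A : X.Modules} (hA : PicF.IsInvertible A) (I : X.IdealSheafData)
    (hfin : (I.support : Set X).Finite)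
    (hlci : ∀ x : X, ∃ V : X.affineOpens, x ∈ (V : X.Opens) ∧ ∃ a b : Γ(X, V), I.ideal V = Ideal.span {a, b}) :
    (∃ (V : X.Modules) (u : W ⟶ V) (v : V ⟶ CohB1.tensorMod A (ClSub.idealMod I)) (w : u ≫ v = 0),
      FlatMod.IsFinLocFreeOfRank 2 V ∧ (ShortComplex.mk u v w).ShortExact) ↔
    (∀ I' : X.IdealSheafData, I ⋖ I' → ∀ σ : Coh.structureModule X ⟶ A,
      PicF2.zeroScheme A σ ≤ I' → PicF2.zeroScheme A σ ≤ I) := by
  classical
  haveI := isNoetherian_of_proper (X := X) k
  haveI := isSeparated_of_proper (X := X) k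
  haveI : IsGrothendieckAbelian.{u} X.Modules := DCat.schemeModules_isGrothendieckAbelian X
  haveI : JacobsonSpace X := LocallyOfFiniteType.jacobsonSpace (X ↘ Spec (CommRingCat.of k))
  have hreg : ∀ x : X, IsRegularLocalRing (X.presheaf.stalk x) := fun x => RankOneHull.regular k x
  obtain ⟨t, hrep⟩ := Surf15.exists_dualizing_canonical k hX hW hWi
  obtain ⟨H, hH⟩ := Surf15.exists_ample k hX hreg
  have hd2 : ∀ x : X, IsClosed ({x} : Set X) → ringKrullDim (X.presheaf.stalk x) = (2 : ℕ) := fun x hx =>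
    Surf15.ringKrullDim_stalk_closed k (Surf15.dim_components k hX) hx
  have hWc : Coh.IsCoh W := PicLib.isCoh_of_isInvertible hWi
  have hTc : ∀ J : X.IdealSheafData, Coh.IsCoh (CohB1.tensorMod A (ClSub.idealMod J)) := fun J =>
    Coherent.isCoh_of_iso (tensorComm _ _) (EulerLib.isCoh_twist hA (CurveRR24.isCoh_idealMod' J))
  have hdual : ∀ (G : X.Modules), Coh.IsCoh G →
      Nonempty (Ext G W 2 ≃ₗ[k] Module.Dual k (Coh.HH X G 0)) ∧ Subsingleton (Ext G W 3) := fun G hG =>
    have h := fun i => SerreDual.duality_cm (k := k) hH hX.le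
      (fun x hx => ⟨haveI := hreg x; CAlgH3.isCohenMacaulayLocalRing_of_regular _, hd2 x hx⟩) hWc t
      (fun F hF => hrep F hF.1) G hG i
    ⟨(h 2).1 0 rfl, (h 3).2 (by omega)⟩
  have hpts : ∀ x ∈ I.support, IsClosed ({x} : Set X) := fun x hx =>
    isClosed_singleton_of_finite I.support.2 hfin hx
  -- local data at a point of the support
  have hloc : ∀ x ∈ I.support, ∃ (a b : X.presheaf.stalk x) (n : ℕ), stk I x = Ideal.span {a, b} ∧
      maximalIdeal (X.presheaf.stalk x) ^ n ≤ Ideal.span {a, b} ∧ Ideal.span {a, b} ≤ maximalIdeal (X.presheaf.stalk x) := fun x hx => by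
    obtain ⟨V, hxV, a, b, hV⟩ := hlci x
    have hJ : stk I x = Ideal.span {X.presheaf.germ V.1 x hxV a, X.presheaf.germ V.1 x hxV b} := by
      rw [stk_eq I V hxV, hV, Ideal.map_span, Set.image_pair]
    obtain ⟨n, hn⟩ := exists_pow_le_stk I hpts (x := x)
    exact ⟨_, _, n, hJ, hJ ▸ hn, hJ ▸ (SDiv28.CartierPart.mem_support_iff_stk I x).1 hx⟩
  have hsocle : ∀ x (hx : x ∈ I.support), ∃ Δ : X.presheaf.stalk x, Δ ∈ stk (socI I x (hpts x hx)) x ∧ Δ ∉ stk I x ∧
      ∀ r ∈ stk (socI I x (hpts x hx)) x, ∃ t, r - t * Δ ∈ stk I x := fun x hx => by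
    haveI := hreg x
    obtain ⟨a, b, n, hJ, hn, hJm⟩ := hloc x hx
    obtain ⟨Δ, h1, h2, h3⟩ := exists_socle (hd2 x (hpts x hx)) hn hJm
    refine ⟨Δ, (mem_stk_socI I _ Δ).2 (by rw [hJ]; exact h2), hJ ▸ h1, fun r hr => ?_⟩
    rw [hJ]
    exact h3 r (hJ ▸ (mem_stk_socI I _ r).1 hr)
  have hle : ∀ x (hx : x ∈ I.support), I ≤ socI I x (hpts x hx) := fun x hx => le_iff_stk.2 fun y => by
    by_cases hy : y = x
    · subst hy
      exact fun r hr => (mem_stk_socI I _ r).2 fun v _ => Ideal.mul_mem_left _ v hr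
    · exact (stk_socI_ne I _ hy).ge
  -- a larger ideal contains a socle enlargement
  have hbig : ∀ K : X.IdealSheafData, I ≤ K → ∀ x (hx : x ∈ I.support), ¬ stk K x ≤ stk I x →
      socI I x (hpts x hx) ≤ K := fun K hK x hx hKx => le_iff_stk.2 fun y => by
    by_cases hy : y = x
    · subst hy
      haveI := hreg y
      obtain ⟨a, b, n, hJ, hn, hJm⟩ := hloc y hx
      obtain ⟨c₀, hc₀, hc₀'⟩ := SetLike.not_le_iff_exists.1 hKx
      obtain ⟨c, hcK, hcJ, hcs⟩ := exists_mem_socle (hJ ▸ hn : maximalIdeal _ ^ n ≤ stk I y) hc₀ hc₀'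
      obtain ⟨Δ, hΔ, hΔ', hgen⟩ := hsocle y hx
      obtain ⟨t, ht⟩ := hgen c ((mem_stk_socI I _ c).2 hcs)
      have htu : IsUnit t := by
        by_contra htu
        refine hcJ ?_
        have := add_mem ht ((mem_stk_socI I _ Δ).1 hΔ t htu)
        rwa [sub_add_cancel] at this
      have hΔK : Δ ∈ stk K y := by
        refine (Ideal.unit_mul_mem_iff_mem _ htu).1 ?_
        have := sub_mem hcK (le_iff_stk.1 hK y ht)
        rwa [sub_sub_cancel] at this
      intro r hr
      obtain ⟨t', ht'⟩ := hgen r hr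
      have := add_mem (le_iff_stk.1 hK y ht') (Ideal.mul_mem_left _ t' hΔK)
      rwa [sub_add_cancel] at this
    · rw [stk_socI_ne I _ hy]; exact le_iff_stk.1 hK y
  have hcov : ∀ x (hx : x ∈ I.support), I ⋖ socI I x (hpts x hx) := fun x hx => by
    obtain ⟨Δ, hΔ, hΔ', -⟩ := hsocle x hx
    refine ⟨lt_of_le_of_ne (hle x hx) fun h => hΔ' (h ▸ hΔ), fun K hK hK' => ?_⟩
    obtain ⟨y, hy⟩ : ∃ y, ¬ stk K y ≤ stk I y := by
      by_contra hcon
      push Not at hcon
      exact hK.not_ge (le_iff_stk.2 hcon)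
    by_cases hyx : y = x
    · subst hyx
      exact hK'.not_ge (hbig K hK.le y hx hy)
    · exact hy ((le_iff_stk.1 hK'.le y).trans (stk_socI_ne I _ hyx).le)
  have hcover : ∀ I' : X.IdealSheafData, I ⋖ I' → ∃ x, ∃ hx : x ∈ I.support, I' = socI I x (hpts x hx) := fun I' h => by
    obtain ⟨y, hy⟩ : ∃ y, ¬ stk I' y ≤ stk I y := by
      by_contra hcon
      push Not at hcon
      exact h.lt.not_ge (le_iff_stk.2 hcon)
    have hys : y ∈ I.support := by
      by_contra hys
      exact hy (by rw [SDiv28.CartierPart.stk_eq_top hys]; exact le_top)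
    refine ⟨y, hys, ?_⟩
    rcases h.eq_or_eq (hle y hys) (hbig I' h.le y hys hy) with h' | h'
    · obtain ⟨Δ, hΔ, hΔ', -⟩ := hsocle y hys
      exact absurd (h' ▸ hΔ) hΔ'
    · exact h'.symm
  -- the sequences
  obtain ⟨hm, hr⟩ := RamDiv8.twistIncl_spec hA I
  haveI := hm
  let P := ↥(I.support : Set X)
  let I' : P → X.IdealSheafData := fun z => socI I z.1 (hpts z.1 z.2)
  have hj : ∀ z : P, ∃ j : CohB1.tensorMod A (ClSub.idealMod I) ⟶ CohB1.tensorMod A (ClSub.idealMod (I' z)),
      j ≫ RamDiv8.twistIncl A (I' z) = RamDiv8.twistIncl A I := fun z => by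
    obtain ⟨hm', hr'⟩ := RamDiv8.twistIncl_spec hA (I' z)
    haveI := hm'
    refine exists_factor _ _ fun x => ?_
    rw [hr x, hr' x]
    exact Submodule.smul_mono_left (le_iff_stk.1 (hle z.1 z.2) x)
  choose j hj using hj
  haveI hjm : ∀ z, Mono (j z) := fun z => by
    haveI : Mono (j z ≫ RamDiv8.twistIncl A (I' z)) := by rw [hj]; infer_instance
    exact mono_of_mono (j z) (RamDiv8.twistIncl A (I' z))
  let T : P → ShortComplex X.Modules := fun z => ShortComplex.mk (j z) (cokernel.π (j z)) (cokernel.condition _)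
  have hT : ∀ z, (T z).ShortExact := fun z =>
    { exact := ShortComplex.exact_cokernel _
      mono_f := hjm z
      epi_g := inferInstanceAs (Epi (cokernel.π (j z))) }
  have hQ : ∀ z, PointMod z.1 (T z).X₃ ∧ Nontrivial ((St z.1).obj (T z).X₃) := fun z => by
    obtain ⟨Δ, hΔ, hΔ', hgen⟩ := hsocle z.1 z.2
    exact pointMod_cokernel_of_soc hA I (I' z) (hpts z.1 z.2) (fun y hy => stk_socI_ne I _ hy) hΔ hΔ'
      (fun v hv r hr => (mem_stk_socI I _ r).1 hr v hv) hgen (j z) (hj z)
  have hQc : ∀ z, Coh.IsCoh (T z).X₃ := fun z => isCoh_cokernel (j z) (hTc I).1 (hTc (I' z))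
  have hone : ∀ z, Module.finrank k (Ext (T z).X₃ W 2) = 1 := fun z => by
    obtain ⟨e⟩ := (hdual _ (hQc z)).1
    haveI := (hQ z).2
    rw [e.finrank_eq, Subspace.dual_finrank_eq, (hQ z).1.finrank_h0 k]
  have hinjι : ∀ x, Function.Injective ((St x).map (RamDiv8.twistIncl A I)) := fun x =>
    (ModuleCat.mono_iff_injective _).1 inferInstance
  have hgenM : ∀ (M : X.Modules), PicF.IsInvertible M → ∀ x,
      Nonempty (X.presheaf.stalk x ≃ₗ[X.presheaf.stalk x] (St x).obj M) := fun M hM x => by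
    obtain ⟨U, hxU, g, hg⟩ := exists_isGen hM x
    exact ⟨LinearEquiv.ofBijective
      (LinearMap.toSpanSingleton (X.presheaf.stalk x) ((St x).obj M) (M.presheaf.germ U x hxU g))
      (VarietyLib.gen_germ_bijective hg hxU)⟩
  have hoff : ∀ (V : X.Modules) (u : W ⟶ V) (v : V ⟶ CohB1.tensorMod A (ClSub.idealMod I)) (w : u ≫ v = 0),
      (ShortComplex.mk u v w).ShortExact → ∀ x, x ∉ I.support →
        Nonempty (Module.Basis (Fin 2) (X.presheaf.stalk x) ((St x).obj V)) := fun V u v w hS x hx => by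
    have h := hS.map_of_exact (St x)
    obtain ⟨ew⟩ := hgenM W hWi x
    obtain ⟨ea⟩ := hgenM A hA x
    have hsur : Function.Surjective ((St x).map (RamDiv8.twistIncl A I)).hom := fun a => by
      have : a ∈ LinearMap.range ((St x).map (RamDiv8.twistIncl A I)).hom := by
        rw [hr x, SDiv28.CartierPart.stk_eq_top hx, Submodule.top_smul]; trivial
      exact this
    exact basis_of_free ((St x).map u).hom ((St x).map v).hom h.moduleCat_injective_f h.moduleCat_surjective_g
      ((ShortComplex.ShortExact.moduleCat_exact_iff_function_exact _).1 h.exact) ew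
      (ea.trans (LinearEquiv.ofBijective _ ⟨hinjι x, hsur⟩).symm)
  have hon : ∀ (V : X.Modules) (u : W ⟶ V) (v : V ⟶ CohB1.tensorMod A (ClSub.idealMod I)) (w : u ≫ v = 0)
      (hS : (ShortComplex.mk u v w).ShortExact), ∀ z : P,
        (Nonempty (Module.Basis (Fin 2) (X.presheaf.stalk z.1) ((St z.1).obj V)) ↔
          (hT z).extClass.comp hS.extClass (rfl : 1 + 1 = 2) ≠ 0) := fun V u v w hS z => by
    haveI := hreg z.1
    obtain ⟨a, b, n, hJ, hn, hJm⟩ := hloc z.1 z.2
    obtain ⟨ew⟩ := hgenM W hWi z.1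
    obtain ⟨ea⟩ := hgenM A hA z.1
    obtain ⟨hm', hr'⟩ := RamDiv8.twistIncl_spec hA (I' z)
    haveI := hm'
    haveI := (hQ z).2
    have h := hS.map_of_exact (St z.1)
    have hTz := (hT z).map_of_exact (St z.1)
    have hinj' : Function.Injective ((St z.1).map (RamDiv8.twistIncl A (I' z))) :=
      (ModuleCat.mono_iff_injective _).1 inferInstance
    have hcyc : ∃ q₀ : ((T z).map (St z.1)).X₃, ∀ q : ((T z).map (St z.1)).X₃, ∃ r : X.presheaf.stalk z.1, r • q₀ = q := by
      obtain ⟨p, hp⟩ := (hQ z).1.cyclic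
      haveI := hp
      refine ⟨(St z.1).map p (SDiv28.unitStalkEquiv z.1 1), fun q => ?_⟩
      obtain ⟨v, rfl⟩ := (ModuleCat.epi_iff_surjective ((St z.1).map p)).1 inferInstance q
      obtain ⟨r, rfl⟩ := (SDiv28.unitStalkEquiv z.1).surjective v
      refine ⟨r, (((St z.1).map p).hom.map_smul r _).symm.trans (congrArg _ ?_)⟩
      exact ((SDiv28.unitStalkEquiv z.1).map_smul r 1).symm.trans (congrArg _ (mul_one r))
    haveI : Nontrivial ((T z).map (St z.1)).X₃ := (hQ z).2
    refine (basis_iff_comp_ne_zero (hd2 z.1 (hpts z.1 z.2)) h hTz rfl ew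
      (ea.symm.toLinearMap ∘ₗ ((St z.1).map (RamDiv8.twistIncl A I)).hom) (ea.symm.injective.comp (hinjι z.1))
      (a := a) (b := b) (by
        refine (LinearMap.range_comp _ _).trans ((congrArg (Submodule.map _) (hr z.1)).trans ?_)
        rw [Submodule.map_smul'', Submodule.map_top]
        refine (congrArg (fun t => stk I z.1 • t) ea.symm.range).trans ?_
        rw [smul_eq_mul, Ideal.mul_top, hJ])
      hn hJm (ea.symm.toLinearMap ∘ₗ ((St z.1).map (RamDiv8.twistIncl A (I' z))).hom) (ea.symm.injective.comp hinj')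
      (hQ z).1.ann hcyc).trans ?_
    have hmap : ((hT z).extClass.comp hS.extClass (rfl : 1 + 1 = 2)).mapExactFunctor (St z.1) =
        hTz.extClass.comp ((Ext.mk₀ (eqToHom (rfl : ((T z).map (St z.1)).X₁ = ((T z).map (St z.1)).X₁))).comp h.extClass
          (zero_add 1)) (rfl : 1 + 1 = 2) := by
      rw [Ext.mapExactFunctor_comp, Ext.mapExactFunctor_extClass, Ext.mapExactFunctor_extClass]
      exact congrArg (fun t => hTz.extClass.comp t (rfl : 1 + 1 = 2)) (Ext.mk₀_id_comp _).symm
    refine not_congr ⟨fun h0 => (hQ z).1.ext_two_eq_zero _ (hmap.trans h0), fun h0 => ?_⟩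
    exact hmap.symm.trans ((congrArg (fun t => t.mapExactFunctor (St z.1)) h0).trans
      (Ext.mapExactFunctor_zero (St z.1) _ _ _))
  have hcrit : ∀ z : P, ((∀ σ : Coh.structureModule X ⟶ A,
      PicF2.zeroScheme A σ ≤ I' z → PicF2.zeroScheme A σ ≤ I) ↔
      ∃ e : Ext (CohB1.tensorMod A (ClSub.idealMod I)) W 1, (hT z).extClass.comp e (rfl : 1 + 1 = 2) ≠ 0) := fun z => by
    haveI := (RamDiv8.twistIncl_spec hA (I' z)).1
    let F := CohB1.tensorMod A (ClSub.idealMod I)
    let F' := CohB1.tensorMod A (ClSub.idealMod (I' z))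
    let J : GA (baseHom k X) F →ₗ[k] GA (baseHom k X) F' :=
      { toFun := fun s => (j z).app ⊤ s
        map_add' := fun a b => map_add _ _ _
        map_smul' := fun c s => Scheme.Modules.Hom.app_smul (j z) (baseHom k X c) _ }
    have hdesc : ∀ s : Γ(F, ⊤), unitDesc F s ≫ j z = unitDesc F' ((j z).app ⊤ s) := fun s => by
      rw [← unitDesc_unitVal (unitDesc F s ≫ j z)]
      refine congrArg _ ?_
      show (j z).app ⊤ (unitVal (unitDesc _ s) ⊤) = _
      rw [unitVal_unitDesc, resM_self]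
    have hJi : Function.Injective J := fun a b hab =>
      unitDesc_inj ((cancel_mono (j z)).1 ((hdesc a).trans ((congrArg (unitDesc F') hab).trans (hdesc b).symm)))
    have hCB : (∀ σ : Coh.structureModule X ⟶ A, PicF2.zeroScheme A σ ≤ I' z → PicF2.zeroScheme A σ ≤ I) ↔
        Function.Surjective J := by
      constructor
      · intro h s
        obtain ⟨g, hg⟩ := (exists_lift_iff_le hA I _).2
          (h _ ((exists_lift_iff_le hA (I' z) _).1 ⟨unitDesc F' s, rfl⟩))
        rw [← hj z, ← Category.assoc, cancel_mono, ← unitDesc_unitVal g, hdesc] at hg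
        exact ⟨unitVal g ⊤, unitDesc_inj hg⟩
      · intro h σ hσ
        obtain ⟨g, hg⟩ := (exists_lift_iff_le hA (I' z) σ).2 hσ
        obtain ⟨g', hg'⟩ := h (unitVal g ⊤)
        refine (exists_lift_iff_le hA I σ).1 ⟨unitDesc _ g', ?_⟩
        rw [← hj z, ← Category.assoc, hdesc, show (j z).app ⊤ g' = unitVal g ⊤ from hg', unitDesc_unitVal, hg]
    obtain ⟨d₁⟩ := (hdual _ (hTc I)).1
    obtain ⟨d₂⟩ := (hdual _ (hTc (I' z))).1
    haveI := CurveRR24.finite_HH_of_isCoh k (hTc I) 0
    haveI := CurveRR24.finite_HH_of_isCoh k (hTc (I' z)) 0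
    haveI : Module.Finite k (GA (baseHom k X) F) := Module.Finite.equiv (CurveRR24.hhZero k F)
    haveI : Module.Finite k (GA (baseHom k X) F') := Module.Finite.equiv (CurveRR24.hhZero k F')
    haveI : Module.Finite k (Ext F W 2) := Module.Finite.equiv d₁.symm
    haveI : Module.Finite k (Ext F' W 2) := Module.Finite.equiv d₂.symm
    let γ : Ext F' W 2 →ₗ[k] Ext F W 2 := (Ext.mk₀ (j z)).precompOfLinear k W (zero_add 2)
    have hγs : Function.Surjective γ := fun y => by
      haveI : Subsingleton (Ext (T z).X₃ W 3) := (hdual _ (hQc z)).2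
      obtain ⟨x, hx⟩ := Ext.contravariant_sequence_exact₁ (hT z) W y (n₁ := 3) rfl (Subsingleton.elim _ _)
      exact ⟨x, hx⟩
    have hdim : Function.Surjective J ↔ Function.Injective γ := by
      have e1 : Module.finrank k (Ext F W 2) = Module.finrank k (GA (baseHom k X) F) := by
        rw [d₁.finrank_eq, Subspace.dual_finrank_eq, (CurveRR24.hhZero k F).finrank_eq]
      have e2 : Module.finrank k (Ext F' W 2) = Module.finrank k (GA (baseHom k X) F') := by
        rw [d₂.finrank_eq, Subspace.dual_finrank_eq, (CurveRR24.hhZero k F').finrank_eq]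
      constructor
      · intro h
        have := (LinearEquiv.ofBijective J ⟨hJi, h⟩).finrank_eq
        exact (LinearMap.injective_iff_surjective_of_finrank_eq_finrank (by omega)).2 hγs
      · intro h
        have := (LinearEquiv.ofBijective γ ⟨h, hγs⟩).finrank_eq
        exact (LinearMap.injective_iff_surjective_of_finrank_eq_finrank (by omega)).1 hJi
    rw [hCB, hdim]
    constructor
    · intro h
      haveI : Nontrivial (Ext (T z).X₃ W 2) := Module.nontrivial_of_finrank_pos (R := k) (by rw [hone z]; omega)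
      obtain ⟨y, hy⟩ := exists_ne (0 : Ext (T z).X₃ W 2)
      have h0 : (Ext.mk₀ (T z).g).comp y (zero_add 2) = 0 := h (by
        rw [map_zero]
        show (Ext.mk₀ (T z).f).comp ((Ext.mk₀ (T z).g).comp y (zero_add 2)) (zero_add 2) = 0
        rw [Ext.mk₀_comp_mk₀_assoc, (T z).zero, Ext.mk₀_zero, Ext.zero_comp])
      obtain ⟨e, he⟩ := Ext.contravariant_sequence_exact₃ (hT z) W y h0 (n₀ := 1) rfl
      exact ⟨e, by rw [he]; exact hy⟩
    · rintro ⟨e, he⟩
      refine (injective_iff_map_eq_zero γ).2 fun y hy => ?_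
      obtain ⟨y', rfl⟩ := Ext.contravariant_sequence_exact₂ (hT z) W y hy
      obtain ⟨c, rfl⟩ := (finrank_eq_one_iff_of_nonzero' _ he).1 (hone z) y'
      rw [Ext.comp_smul, ← Ext.comp_assoc (Ext.mk₀ (T z).g) (hT z).extClass e (zero_add 1) rfl (by omega),
        (hT z).comp_extClass, Ext.zero_comp, smul_zero]
  constructor
  · rintro ⟨V, u, v, w, hV, hS⟩ I'' hI''
    obtain ⟨x, hx, rfl⟩ := hcover I'' hI''
    haveI := (CohBC.isCoh_of_isFinLocFree (VarietyLib.isFinLocFree_of_rank hV)).1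
    exact (hcrit ⟨x, hx⟩).2 ⟨hS.extClass, (hon V u v w hS ⟨x, hx⟩).1 (SplitP1.nonempty_basis_stalk hV x)⟩
  · intro h
    let M : P → Submodule k (Ext (CohB1.tensorMod A (ClSub.idealMod I)) W 1) := fun z =>
      LinearMap.ker ((hT z).extClass.precompOfLinear k W (rfl : 1 + 1 = 2))
    haveI : Infinite k := IsAlgClosed.instInfinite
    haveI : Finite P := hfin.to_subtype
    have hne : (⋃ z, (M z : Set (Ext (CohB1.tensorMod A (ClSub.idealMod I)) W 1))) ≠ Set.univ := fun hU => by
      obtain ⟨z, hz'⟩ := Subspace.exists_eq_top_of_iUnion_eq_univ hU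
      obtain ⟨e, he⟩ := (hcrit z).1 (h _ (hcov z.1 z.2))
      exact he (LinearMap.mem_ker.1 (hz'.ge (Submodule.mem_top : e ∈ ⊤)))
    obtain ⟨e, he⟩ := (Set.ne_univ_iff_exists_notMem _).1 hne
    simp only [Set.mem_iUnion, SetLike.mem_coe, not_exists] at he
    obtain ⟨V, u, v, w, hS, rfl⟩ := Et18.ExtRealize.exists_extClass_eq e
    have hVc : Coh.IsCoh V := Coherent.isCoh_X₂ hS hWc (hTc I)
    refine ⟨V, u, v, w, isFinLocFreeOfRank_two hVc fun x => ?_, hS⟩
    by_cases hx : x ∈ I.support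
    · exact (hon V u v w hS ⟨x, hx⟩).2 fun h0 => he ⟨x, hx⟩ (LinearMap.mem_ker.2 h0)
    · exact hoff V u v w hS x hx

end Groth.Agent.Mod22.CB
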