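import Groth.Agent.Mod22.CB.Setup
import Groth.Agent.Mod22.CB.Algebra
import Groth.Agent.Surf15.BundleDual
import Groth.Agent.Et18.ExtRealize
import Groth.Agent.Coherent.Devissage
import Groth.Agent.Props12.FinLocFree
import Groth.Agent.Mod22.RankOneHull
import Mathlib.GroupTheory.CosetCover

/-!
# Cayley–Bacharach and locally free extensions
-/

set_option autoImplicit false
set_option linter.style.haveILetI false
set_option linter.unusedSectionVars false
set_option backward.isDefEq.respectTransparency.types false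
set_option maxHeartbeats 1000000

universe u

open CategoryTheory CategoryTheory.Abelian CategoryTheory.Limits AlgebraicGeometry Opposite TopologicalSpace
open Groth.Agent.Coherent Groth.Agent.PicLib Groth.Agent.AmpleLib Groth.Agent.EulerLib
open IsLocalRing

namespace Groth.Agent.Mod22.CB

section Free

/-- An extension of a free module of rank one by a free module of rank one is free of rank two. -/
theorem basis_of_free {R : Type u} [CommRing R] {W V F : Type u} [AddCommGroup W] [Module R W]
    [AddCommGroup V] [Module R V] [AddCommGroup F] [Module R F] (f : W →ₗ[R] V) (g : V →ₗ[R] F)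
    (hf : Function.Injective f) (hg : Function.Surjective g) (hfg : Function.Exact f g)
    (w : R ≃ₗ[R] W) (φ : R ≃ₗ[R] F) : Nonempty (Module.Basis (Fin 2) R V) := by
  obtain ⟨v, hv⟩ := hg (φ 1)
  let ψ : R × R →ₗ[R] V := (LinearMap.toSpanSingleton R V (f (w 1))).coprod (LinearMap.toSpanSingleton R V v)
  have hg1 : g (f (w 1)) = 0 := hfg.apply_apply_eq_zero _
  have hψ : Function.Bijective ψ := by
    refine ⟨(injective_iff_map_eq_zero ψ).2 fun ⟨a, b⟩ h => ?_, fun x => ?_⟩
    · have hb : φ b = φ 0 := by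
        have := congrArg g h
        rw [map_zero, show b = b • (1 : R) from (mul_one b).symm, map_smul, ← hv]
        simpa [ψ, hg1] using this
      obtain rfl := φ.injective hb
      have ha : f (w a) = f (w 0) := by
        rw [map_zero, map_zero, show a = a • (1 : R) from (mul_one a).symm, map_smul, map_smul]
        simpa [ψ] using h
      obtain rfl := w.injective (hf ha)
      rfl
    · obtain ⟨b, hb⟩ := φ.surjective (g x)
      obtain ⟨c, hc⟩ := (hfg (x - b • v)).1 (by
        rw [map_sub, map_smul, hv, ← map_smul, smul_eq_mul, mul_one, hb, sub_self])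
      obtain ⟨a, rfl⟩ := w.surjective c
      refine ⟨(a, b), ?_⟩
      show a • f (w 1) + b • v = x
      rw [← map_smul, ← map_smul, smul_eq_mul, mul_one, hc, sub_add_cancel]
  exact ⟨(Module.Basis.ofEquivFun (LinearEquiv.finTwoArrow R R).symm).map (LinearEquiv.ofBijective ψ hψ)⟩

end Free

variable {X : Scheme.{u}}

local notation "St" => DerSch.stalkFunctor X

/-- A coherent module with bases of two elements in all stalks is locally free of rank two. -/
theorem isFinLocFreeOfRank_two [IsLocallyNoetherian X] {V : X.Modules} (hV : Coh.IsCoh V)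
    (h : ∀ x, Nonempty (Module.Basis (Fin 2) (X.presheaf.stalk x) ((St x).obj V))) :
    FlatMod.IsFinLocFreeOfRank 2 V := by
  haveI := hV.1
  have hlf : FlatMod.IsFinLocFree V := (RefHullLib.isFinLocFree_iff_free_stalks hV).2 fun x => by
    obtain ⟨b⟩ := h x
    exact Module.Free.of_basis b
  intro x
  obtain ⟨U, n, hxU, ⟨e⟩⟩ := hlf x
  obtain ⟨b⟩ := h x
  obtain ⟨b'⟩ := TFPush7.basis_of_restrict_iso hxU e
  obtain rfl : n = 2 := by
    have h1 := Module.finrank_eq_card_basis b'
    have h2 := Module.finrank_eq_card_basis b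
    rw [Fintype.card_fin] at h1 h2
    exact h1.symm.trans h2
  exact ⟨U, hxU, ⟨e⟩⟩

variable (k : Type u) [Field k] [IsAlgClosed k] [X.Over (Spec (CommRingCat.of k))]
  [IsProper (X ↘ Spec (CommRingCat.of k))] [IsIntegral X] [Smooth (X ↘ Spec (CommRingCat.of k))]

/-- **Cayley–Bacharach**: a locally free extension exists exactly when the points impose dependent
conditions. -/
theorem exists_extension_iff (hX : topologicalKrullDim X = ((2 : ℕ) : WithBot ℕ∞))
    {W : X.Modules} (hW : ExtPow.IsExtPow 2 (Omega.sheaf (X ↘ Spec (CommRingCat.of k))) W)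
    (hWi : PicF.IsInvertible W) {A : X.Modules} (hA : PicF.IsInvertible A) (Z : Closeds X)
    (hfin : (Z : Set X).Finite) (hpts : ∀ z ∈ Z, IsClosed ({z} : Set X)) :
    (∃ (V : X.Modules) (u : W ⟶ V) (v : V ⟶ Tw A Z) (w : u ≫ v = 0),
      FlatMod.IsFinLocFreeOfRank 2 V ∧ (ShortComplex.mk u v w).ShortExact) ↔
    (∀ z ∈ Z, ∀ σ : Coh.structureModule X ⟶ A,
      (∀ z' ∈ Z, z' ≠ z → z' ∈ (PicF2.zeroScheme A σ).support) → z ∈ (PicF2.zeroScheme A σ).support) := by
  classical
  haveI := isNoetherian_of_proper (X := X) k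
  haveI := isSeparated_of_proper (X := X) k
  haveI : IsGrothendieckAbelian.{u} X.Modules := DCat.schemeModules_isGrothendieckAbelian X
  have hreg : ∀ x : X, IsRegularLocalRing (X.presheaf.stalk x) := fun x => RankOneHull.regular k x
  obtain ⟨t, hrep⟩ := Surf15.exists_dualizing_canonical k hX hW hWi
  obtain ⟨H, hH⟩ := Surf15.exists_ample k hX hreg
  have hd2 : ∀ x : X, IsClosed ({x} : Set X) → ringKrullDim (X.presheaf.stalk x) = (2 : ℕ) := fun x hx =>
    Surf15.ringKrullDim_stalk_closed k (Surf15.dim_components k hX) hx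
  have hWc : Coh.IsCoh W := PicLib.isCoh_of_isInvertible hWi
  have hAc : Coh.IsCoh A := PicLib.isCoh_of_isInvertible hA
  have hTc : ∀ Y : Closeds X, Coh.IsCoh (Tw A Y) := fun Y =>
    EulerLib.isCoh_twist hA (CurveRR24.isCoh_idealMod' _)
  have hdual : ∀ (G : X.Modules), Coh.IsCoh G →
      Nonempty (Ext G W 2 ≃ₗ[k] Module.Dual k (Coh.HH X G 0)) ∧ Subsingleton (Ext G W 3) := fun G hG =>
    have h := fun i => SerreDual.duality_cm (k := k) hH hX.le
      (fun x hx => ⟨haveI := hreg x; CAlgH3.isCohenMacaulayLocalRing_of_regular _, hd2 x hx⟩) hWc t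
      (fun F hF => hrep F hF.1) G hG i
    ⟨(h 2).1 0 rfl, (h 3).2 (by omega)⟩
  -- the points removed
  have hcl : ∀ z, IsClosed ((Z : Set X) \ {z}) := fun z => by
    rw [← Set.biUnion_of_singleton ((Z : Set X) \ {z})]
    exact (hfin.subset Set.sdiff_subset).isClosed_biUnion fun y hy => hpts y hy.1
  let Zm : X → Closeds X := fun z => ⟨(Z : Set X) \ {z}, hcl z⟩
  have hfinm : ∀ z, (Zm z : Set X).Finite := fun z => hfin.subset Set.sdiff_subset
  have hptsm : ∀ z, ∀ y ∈ Zm z, IsClosed ({y} : Set X) := fun z y hy => hpts y hy.1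
  haveI := mono_twι hA Z
  have hj : ∀ z, ∃ j : Tw A Z ⟶ Tw A (Zm z), j ≫ twι A (Zm z) = twι A Z := fun z => by
    haveI := mono_twι hA (Zm z)
    refine exists_factor _ _ fun x => ?_
    by_cases hx : x ∈ Zm z
    · rw [range_twι_mem hA (Zm z) (hfinm z) (hptsm z) hx, range_twι_mem hA Z hfin hpts hx.1]
    · rw [range_twι_off A (Zm z) hx]; exact le_top
  choose j hj using hj
  haveI hjm : ∀ z, Mono (j z) := fun z => by
    haveI : Mono (j z ≫ twι A (Zm z)) := by rw [hj]; infer_instance
    exact mono_of_mono (j z) (twι A (Zm z))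
  let T : X → ShortComplex X.Modules := fun z => ShortComplex.mk (j z) (cokernel.π (j z)) (cokernel.condition _)
  have hT : ∀ z, (T z).ShortExact := fun z =>
    { exact := ShortComplex.exact_cokernel _
      mono_f := hjm z
      epi_g := inferInstanceAs (Epi (cokernel.π (j z))) }
  have hQ : ∀ z ∈ Z, PointMod z (T z).X₃ ∧ Nontrivial ((St z).obj (T z).X₃) := fun z hz =>
    pointMod_cokernel hA Z (Zm z) hfin hpts hz rfl (j z) (hj z)
  have hQc : ∀ z, Coh.IsCoh (T z).X₃ := fun z => isCoh_cokernel (j z) (hTc Z).1 (hTc (Zm z))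
  have hone : ∀ z ∈ Z, Module.finrank k (Ext (T z).X₃ W 2) = 1 := fun z hz => by
    obtain ⟨e⟩ := (hdual _ (hQc z)).1
    haveI := (hQ z hz).2
    rw [e.finrank_eq, Subspace.dual_finrank_eq, (hQ z hz).1.finrank_h0 k]
  -- the local criterion
  have hinjι : ∀ x, Function.Injective ((St x).map (twι A Z)) := fun x =>
    (ModuleCat.mono_iff_injective _).1 inferInstance
  have hgen : ∀ (M : X.Modules), PicF.IsInvertible M → ∀ x,
      Nonempty (X.presheaf.stalk x ≃ₗ[X.presheaf.stalk x] (St x).obj M) := fun M hM x => by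
    obtain ⟨U, hxU, g, hg⟩ := exists_isGen hM x
    exact ⟨LinearEquiv.ofBijective
      (LinearMap.toSpanSingleton (X.presheaf.stalk x) ((St x).obj M) (M.presheaf.germ U x hxU g))
      (VarietyLib.gen_germ_bijective hg hxU)⟩
  have hoff : ∀ (V : X.Modules) (u : W ⟶ V) (v : V ⟶ Tw A Z) (w : u ≫ v = 0),
      (ShortComplex.mk u v w).ShortExact → ∀ x, x ∉ Z →
        Nonempty (Module.Basis (Fin 2) (X.presheaf.stalk x) ((St x).obj V)) := fun V u v w hS x hx => by
    have h := hS.map_of_exact (St x)
    obtain ⟨ew⟩ := hgen W hWi x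
    obtain ⟨ea⟩ := hgen A hA x
    have hsur : Function.Surjective ((St x).map (twι A Z)).hom := fun a => by
      have : a ∈ LinearMap.range ((St x).map (twι A Z)).hom := by
        rw [range_twι_off A Z hx]; trivial
      exact this
    exact basis_of_free ((St x).map u).hom ((St x).map v).hom h.moduleCat_injective_f h.moduleCat_surjective_g
      ((ShortComplex.ShortExact.moduleCat_exact_iff_function_exact _).1 h.exact) ew
      (ea.trans (LinearEquiv.ofBijective _ ⟨hinjι x, hsur⟩).symm)
  have hon : ∀ (V : X.Modules) (u : W ⟶ V) (v : V ⟶ Tw A Z) (w : u ≫ v = 0)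
      (hS : (ShortComplex.mk u v w).ShortExact), ∀ x ∈ Z,
        (Nonempty (Module.Basis (Fin 2) (X.presheaf.stalk x) ((St x).obj V)) ↔
          (hT x).extClass.comp hS.extClass (rfl : 1 + 1 = 2) ≠ 0) := fun V u v w hS x hx => by
    haveI := hreg x
    have h := hS.map_of_exact (St x)
    have hdim : ringKrullDim (X.presheaf.stalk x) = 2 := hd2 x (hpts x hx)
    obtain ⟨ew⟩ := hgen W hWi x
    obtain ⟨ea⟩ := hgen A hA x
    let jF : (St x).obj (Tw A Z) →ₗ[X.presheaf.stalk x] X.presheaf.stalk x :=
      ea.symm.toLinearMap ∘ₗ ((St x).map (twι A Z)).hom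
    have hjF : Function.Injective jF := ea.symm.injective.comp (hinjι x)
    have hrF : LinearMap.range jF = maximalIdeal (X.presheaf.stalk x) := by
      rw [LinearMap.range_comp, range_twι_mem hA Z hfin hpts hx, Submodule.map_smul'', Submodule.map_top,
        LinearEquiv.range, smul_eq_mul, Ideal.mul_top]
    have hsplit : (h.extClass = 0 ↔
        ∃ s : (St x).obj (Tw A Z) →ₗ[X.presheaf.stalk x] (St x).obj V, ((St x).map v).hom ∘ₗ s = LinearMap.id) :=
      (extClass_eq_zero_iff h).trans ⟨fun ⟨s, hs⟩ => ⟨s.hom, congrArg ModuleCat.Hom.hom hs⟩,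
        fun ⟨s, hs⟩ => ⟨ModuleCat.ofHom s, ModuleCat.hom_ext hs⟩⟩
    have hloc : Nonempty (Module.Basis (Fin 2) (X.presheaf.stalk x) ((St x).obj V)) ↔ h.extClass ≠ 0 := by
      rw [ne_eq, hsplit]
      refine ⟨fun ⟨b⟩ ⟨s, hs⟩ => ?_, fun hns => free_of_not_split hdim ((St x).map u).hom ((St x).map v).hom
        h.moduleCat_injective_f h.moduleCat_surjective_g
        ((ShortComplex.ShortExact.moduleCat_exact_iff_function_exact _).1 h.exact) ew jF hjF hrF hns⟩
      haveI : Module.Free (X.presheaf.stalk x) ((St x).obj V) := Module.Free.of_basis b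
      haveI : Module.Finite (X.presheaf.stalk x) ((St x).obj V) := Module.Finite.of_basis b
      haveI : Module.Finite (X.presheaf.stalk x) ((St x).obj (Tw A Z)) :=
        Module.Finite.of_surjective ((St x).map v).hom h.moduleCat_surjective_g
      haveI : Module.Projective (X.presheaf.stalk x) ((St x).obj (Tw A Z)) :=
        Module.Projective.of_split s ((St x).map v).hom hs
      exact not_free_maximalIdeal hdim jF hjF hrF Module.free_of_flat_of_isLocalRing
    have hmid : Projective ((T x).map (St x)).X₂ := by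
      haveI := mono_twι hA (Zm x)
      have hb : Function.Bijective ((St x).map (twι A (Zm x))).hom := ⟨(ModuleCat.mono_iff_injective _).1 inferInstance,
        fun a => by
          have : a ∈ LinearMap.range ((St x).map (twι A (Zm x))).hom := by
            rw [range_twι_off A (Zm x) (fun hh => hh.2 rfl)]; trivial
          exact this⟩
      have hP : Module.Projective (X.presheaf.stalk x) ((St x).obj (Tw A (Zm x))) :=
        Module.Projective.of_equiv (ea.trans (LinearEquiv.ofBijective _ hb).symm)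
      exact (IsProjective.iff_projective (R := X.presheaf.stalk x) ((St x).obj (Tw A (Zm x)))).1 hP
    have hmap : ((hT x).extClass.comp hS.extClass (rfl : 1 + 1 = 2)).mapExactFunctor (St x) =
        ((hT x).map_of_exact (St x)).extClass.comp h.extClass (rfl : 1 + 1 = 2) := by
      rw [Ext.mapExactFunctor_comp, Ext.mapExactFunctor_extClass, Ext.mapExactFunctor_extClass]
      rfl
    rw [hloc]
    refine not_congr ⟨fun h0 => (hQ x hx).1.ext_two_eq_zero _ ?_, fun h0 => ?_⟩
    · exact hmap.trans ((congrArg (fun t => ((hT x).map_of_exact (St x)).extClass.comp t (rfl : 1 + 1 = 2)) h0).trans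
        (Ext.comp_zero _ _ _ _ _))
    · haveI := hmid
      exact extClass_comp_injective ((hT x).map_of_exact (St x)) h.extClass
        (hmap.symm.trans ((congrArg (fun t => t.mapExactFunctor (St x)) h0).trans (Ext.mapExactFunctor_zero (St x) _ _ _)))
  -- the global criterion
  have hcrit : ∀ z ∈ Z, ((∀ σ : Coh.structureModule X ⟶ A,
      (∀ z' ∈ Z, z' ≠ z → z' ∈ (PicF2.zeroScheme A σ).support) → z ∈ (PicF2.zeroScheme A σ).support) ↔
      ∃ e : Ext (Tw A Z) W 1, (hT z).extClass.comp e (rfl : 1 + 1 = 2) ≠ 0) := fun z hz => by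
    let J : GA (baseHom k X) (Tw A Z) →ₗ[k] GA (baseHom k X) (Tw A (Zm z)) :=
      { toFun := fun s => (j z).app ⊤ s
        map_add' := fun a b => map_add _ _ _
        map_smul' := fun c s => Scheme.Modules.Hom.app_smul (j z) (baseHom k X c) _ }
    have hJi : Function.Injective J := fun a b hab => by
      have : unitDesc (Tw A Z) a ≫ j z = unitDesc (Tw A Z) b ≫ j z := by
        rw [← unitDesc_unitVal (unitDesc (Tw A Z) a ≫ j z), ← unitDesc_unitVal (unitDesc (Tw A Z) b ≫ j z)]
        refine congrArg _ ?_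
        show (j z).app ⊤ (unitVal (unitDesc _ a) ⊤) = (j z).app ⊤ (unitVal (unitDesc _ b) ⊤)
        simp only [unitVal_unitDesc, resM_self]
        exact hab
      exact unitDesc_inj ((cancel_mono (j z)).1 this)
    have hCB : (∀ σ : Coh.structureModule X ⟶ A,
        (∀ z' ∈ Z, z' ≠ z → z' ∈ (PicF2.zeroScheme A σ).support) → z ∈ (PicF2.zeroScheme A σ).support) ↔
        Function.Surjective J := by
      constructor
      · intro h s
        have h' : ∀ y ∈ Z, y ∈ (PicF2.zeroScheme A (unitDesc _ s ≫ twι A (Zm z))).support := by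
          have h1 := (exists_lift_iff hA (Zm z) (hfinm z) (hptsm z) _).1 ⟨unitDesc _ s, rfl⟩
          intro y hy
          by_cases hyz : y = z
          · subst hyz
            exact h _ fun z' hz' hne => h1 z' ⟨hz', hne⟩
          · exact h1 y ⟨hy, hyz⟩
        obtain ⟨g, hg⟩ := (exists_lift_iff hA Z hfin hpts _).2 h'
        haveI := mono_twι hA (Zm z)
        rw [← hj z, ← Category.assoc, cancel_mono] at hg
        refine ⟨unitVal g ⊤, ?_⟩
        have e := congrArg (fun φ => unitVal φ (⊤ : X.Opens)) hg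
        simp only [unitVal_unitDesc, resM_self] at e
        exact e
      · intro h σ hσ
        obtain ⟨g, hg⟩ := (exists_lift_iff hA (Zm z) (hfinm z) (hptsm z) σ).2 fun y hy => hσ y hy.1 hy.2
        obtain ⟨g', hg'⟩ := h (unitVal g ⊤)
        refine (exists_lift_iff hA Z hfin hpts σ).1 ⟨unitDesc _ g', ?_⟩ z hz
        have e : unitDesc _ g' ≫ j z = g := by
          rw [← unitDesc_unitVal g, ← unitDesc_unitVal (unitDesc _ g' ≫ j z)]
          refine congrArg _ ?_
          show (j z).app ⊤ (unitVal (unitDesc _ g') ⊤) = _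
          rw [unitVal_unitDesc, resM_self]
          exact hg'
        rw [← hj z, ← Category.assoc, e, hg]
    obtain ⟨d₁⟩ := (hdual _ (hTc Z)).1
    obtain ⟨d₂⟩ := (hdual _ (hTc (Zm z))).1
    haveI := CurveRR24.finite_HH_of_isCoh k (hTc Z) 0
    haveI := CurveRR24.finite_HH_of_isCoh k (hTc (Zm z)) 0
    haveI : Module.Finite k (GA (baseHom k X) (Tw A Z)) := Module.Finite.equiv (CurveRR24.hhZero k (Tw A Z))
    haveI : Module.Finite k (GA (baseHom k X) (Tw A (Zm z))) := Module.Finite.equiv (CurveRR24.hhZero k (Tw A (Zm z)))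
    haveI : Module.Finite k (Ext (Tw A Z) W 2) := Module.Finite.equiv d₁.symm
    haveI : Module.Finite k (Ext (Tw A (Zm z)) W 2) := Module.Finite.equiv d₂.symm
    let γ : Ext (Tw A (Zm z)) W 2 →ₗ[k] Ext (Tw A Z) W 2 :=
      (Ext.mk₀ (j z)).precompOfLinear k W (zero_add 2)
    have hγs : Function.Surjective γ := fun y => by
      haveI : Subsingleton (Ext (T z).X₃ W 3) := (hdual _ (hQc z)).2
      obtain ⟨x, hx⟩ := Ext.contravariant_sequence_exact₁ (hT z) W y (n₁ := 3) rfl (Subsingleton.elim _ _)
      exact ⟨x, hx⟩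
    have hdim : Function.Surjective J ↔ Function.Injective γ := by
      have e1 : Module.finrank k (Ext (Tw A Z) W 2) = Module.finrank k (GA (baseHom k X) (Tw A Z)) := by
        rw [d₁.finrank_eq, Subspace.dual_finrank_eq, (CurveRR24.hhZero k (Tw A Z)).finrank_eq]
      have e2 : Module.finrank k (Ext (Tw A (Zm z)) W 2) = Module.finrank k (GA (baseHom k X) (Tw A (Zm z))) := by
        rw [d₂.finrank_eq, Subspace.dual_finrank_eq, (CurveRR24.hhZero k (Tw A (Zm z))).finrank_eq]
      constructor
      · intro h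
        have := (LinearEquiv.ofBijective J ⟨hJi, h⟩).finrank_eq
        exact (LinearMap.injective_iff_surjective_of_finrank_eq_finrank (by omega)).2 hγs
      · intro h
        have := (LinearEquiv.ofBijective γ ⟨h, hγs⟩).finrank_eq
        exact (LinearMap.injective_iff_surjective_of_finrank_eq_finrank (by omega)).1 hJi
    rw [hCB, hdim]
    constructor
    · intro h
      haveI : Nontrivial (Ext (T z).X₃ W 2) := Module.nontrivial_of_finrank_pos (R := k) (by rw [hone z hz]; omega)
      obtain ⟨y, hy⟩ := exists_ne (0 : Ext (T z).X₃ W 2)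
      have h0 : (Ext.mk₀ (T z).g).comp y (zero_add 2) = 0 := h (by
        rw [map_zero]
        show (Ext.mk₀ (T z).f).comp ((Ext.mk₀ (T z).g).comp y (zero_add 2)) (zero_add 2) = 0
        rw [Ext.mk₀_comp_mk₀_assoc, (T z).zero, Ext.mk₀_zero, Ext.zero_comp])
      obtain ⟨e, he⟩ := Ext.contravariant_sequence_exact₃ (hT z) W y h0 (n₀ := 1) rfl
      exact ⟨e, by rw [he]; exact hy⟩
    · rintro ⟨e, he⟩
      refine (injective_iff_map_eq_zero γ).2 fun y hy => ?_
      obtain ⟨y', rfl⟩ := Ext.contravariant_sequence_exact₂ (hT z) W y hy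
      obtain ⟨c, rfl⟩ := (finrank_eq_one_iff_of_nonzero' _ he).1 (hone z hz) y'
      rw [Ext.comp_smul, ← Ext.comp_assoc (Ext.mk₀ (T z).g) (hT z).extClass e (zero_add 1) rfl (by omega),
        (hT z).comp_extClass, Ext.zero_comp, smul_zero]
  constructor
  · rintro ⟨V, u, v, w, hV, hS⟩ z hz
    haveI := (CohBC.isCoh_of_isFinLocFree (VarietyLib.isFinLocFree_of_rank hV)).1
    exact (hcrit z hz).2 ⟨hS.extClass, (hon V u v w hS z hz).1 (SplitP1.nonempty_basis_stalk hV z)⟩
  · intro h
    let M : ↥(Z : Set X) → Submodule k (Ext (Tw A Z) W 1) := fun z =>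
      LinearMap.ker ((hT z.1).extClass.precompOfLinear k W (rfl : 1 + 1 = 2))
    haveI : Infinite k := IsAlgClosed.instInfinite
    haveI : Finite (Z : Set X) := hfin.to_subtype
    have hne : (⋃ z, (M z : Set (Ext (Tw A Z) W 1))) ≠ Set.univ := fun hU => by
      obtain ⟨⟨z, hz⟩, hz'⟩ := Subspace.exists_eq_top_of_iUnion_eq_univ hU
      obtain ⟨e, he⟩ := (hcrit z hz).1 (h z hz)
      exact he (LinearMap.mem_ker.1 (hz'.ge (Submodule.mem_top : e ∈ ⊤)))
    obtain ⟨e, he⟩ := (Set.ne_univ_iff_exists_notMem _).1 hne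
    simp only [Set.mem_iUnion, SetLike.mem_coe, not_exists] at he
    obtain ⟨V, u, v, w, hS, rfl⟩ := Et18.ExtRealize.exists_extClass_eq e
    have hVc : Coh.IsCoh V := Coherent.isCoh_X₂ hS hWc (hTc Z)
    refine ⟨V, u, v, w, isFinLocFreeOfRank_two hVc fun x => ?_, hS⟩
    by_cases hx : x ∈ Z
    · exact (hon V u v w hS x hx).2 fun h0 => he ⟨x, hx⟩ (LinearMap.mem_ker.2 h0)
    · exact hoff V u v w hS x hx

end Groth.Agent.Mod22.CB
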