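import Groth.Agent.Mod22.CB.LciMain
import Groth.Agent.IntCM8.Main
import Mathlib.LinearAlgebra.Dual.Lemmas
import Mathlib.GroupTheory.CosetCover

/-!
# The multiplication pairing on a Cayley–Bacharach complete intersection
-/

set_option autoImplicit false
set_option linter.style.haveILetI false
set_option linter.unusedSectionVars false
set_option backward.isDefEq.respectTransparency.types false
set_option maxHeartbeats 1000000

universe u

open CategoryTheory CategoryTheory.Abelian CategoryTheory.Limits AlgebraicGeometry Opposite TopologicalSpace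
open Groth.Agent.Coherent Groth.Agent.PicLib Groth.Agent.AmpleLib Groth.Agent.EulerLib
open Groth.Agent.Misc15.DivDescent
open IsLocalRing

namespace Groth.Agent.Mod22.CB

/-- A functional killing a subspace and no member of a finite family outside it. -/
theorem exists_dual_avoid {K V : Type u} [Field K] [Infinite K] [AddCommGroup V] [Module K V] (S : Submodule K V)
    {ι : Type*} [Finite ι] (v : ι → V) (hv : ∀ i, v i ∉ S) :
    ∃ φ : Module.Dual K V, (∀ x ∈ S, φ x = 0) ∧ ∀ i, φ (v i) ≠ 0 := by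
  let M : ι → Submodule K (Module.Dual K (V ⧸ S)) := fun i => LinearMap.ker (Module.Dual.eval K _ (S.mkQ (v i)))
  have hne : (⋃ i, (M i : Set (Module.Dual K (V ⧸ S)))) ≠ Set.univ := fun hU => by
    obtain ⟨i, hi⟩ := Subspace.exists_eq_top_of_iUnion_eq_univ hU
    have h0 : S.mkQ (v i) = 0 := (Module.forall_dual_apply_eq_zero_iff K _).1 fun f =>
      LinearMap.mem_ker.1 (hi.ge (Submodule.mem_top : f ∈ ⊤))
    exact hv i ((Submodule.Quotient.mk_eq_zero S).1 h0)
  obtain ⟨f, hf⟩ := (Set.ne_univ_iff_exists_notMem _).1 hne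
  simp only [Set.mem_iUnion, SetLike.mem_coe, not_exists] at hf
  refine ⟨f ∘ₗ S.mkQ, fun x hx => ?_, fun i h => hf i (LinearMap.mem_ker.2 h)⟩
  show f (S.mkQ x) = 0
  rw [show S.mkQ x = 0 from (Submodule.Quotient.mk_eq_zero S).2 hx, map_zero]

variable {X : Scheme.{u}} (k : Type u) [Field k] [X.Over (Spec (CommRingCat.of k))]

local notation "St" => DerSch.stalkFunctor X
local notation "alg" x => Curv2.stalkAlgebra k X x

/-- The functions on a finite subscheme, as a product of local rings. -/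
abbrev Pts (I : X.IdealSheafData) : Type u := ↥(I.support : Set X)

/-- The product of the local rings of the subscheme. -/
abbrev locAlg (I : X.IdealSheafData) : Type u := ∀ z : Pts I, X.presheaf.stalk z.1 ⧸ stk I z.1

noncomputable instance locAlgebra (I : X.IdealSheafData) : Algebra k (locAlg I) :=
  letI : ∀ z : Pts I, Algebra k (X.presheaf.stalk z.1) := fun z => alg z.1
  inferInstance

theorem smul_locAlg_apply (I : X.IdealSheafData) (c : k) (z : Pts I) (f : locAlg I) (r : X.presheaf.stalk z.1)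
    (hf : f z = Ideal.Quotient.mk _ r) : (c • f) z = Ideal.Quotient.mk _ (Curv2.stalkMap k X z.1 c * r) := by
  letI : ∀ z : Pts I, Algebra k (X.presheaf.stalk z.1) := fun z => alg z.1
  rw [map_mul, ← hf]
  show c • f z = _
  rw [Algebra.smul_def]
  rfl

/-- Coordinates of the germs of sections. -/
theorem exists_coords (I : X.IdealSheafData) (M : X.Modules) (g : ∀ z : Pts I, (St z.1).obj M)
    (hs : ∀ z v, ∃ r : X.presheaf.stalk z.1, r • g z = v)
    (hu : ∀ z (r : X.presheaf.stalk z.1), r • g z = 0 → r ∈ stk I z.1) :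
    ∃ Φ : GA (baseHom k X) M →ₗ[k] locAlg I, ∀ (s : Γ(M, ⊤)) (z : Pts I) (r : X.presheaf.stalk z.1),
      M.presheaf.germ ⊤ z.1 trivial s = r • g z → Φ s z = Ideal.Quotient.mk _ r := by
  classical
  choose c hc using fun (s : Γ(M, ⊤)) (z : Pts I) => hs z (M.presheaf.germ ⊤ z.1 trivial s)
  have key : ∀ (s : Γ(M, ⊤)) (z : Pts I) (r : X.presheaf.stalk z.1), M.presheaf.germ ⊤ z.1 trivial s = r • g z →
      Ideal.Quotient.mk (stk I z.1) (c s z) = Ideal.Quotient.mk _ r := fun s z r hr =>
    Ideal.Quotient.eq.2 (hu z _ (by rw [sub_smul, hc s z]; exact sub_eq_zero.2 hr))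
  refine ⟨{ toFun := fun s z => Ideal.Quotient.mk _ (c s z), map_add' := ?_, map_smul' := ?_ },
    fun s z r hr => key s z r hr⟩
  · intro s t
    funext z
    refine (key _ z (c s z + c t z) ?_).trans (map_add _ _ _)
    rw [add_smul, hc s z, hc t z]
    exact map_add (M.presheaf.germ ⊤ z.1 trivial).hom (show Γ(M, ⊤) from s) (show Γ(M, ⊤) from t)
  · intro a s
    funext z
    refine Eq.trans ?_ (smul_locAlg_apply k I a z _ (c s z) rfl).symm
    refine key _ z (Curv2.stalkMap k X z.1 a * c s z) ?_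
    rw [mul_smul, hc s z]
    exact QCohLoc.germ_smul' (M := M) (show z.1 ∈ (⊤ : X.Opens) from trivial) _ _

/-- Evaluation of the sections of an invertible sheaf on the subscheme. -/
theorem exists_eval [IsProper (X ↘ Spec (CommRingCat.of k))] {A : X.Modules} (hA : PicF.IsInvertible A)
    (I : X.IdealSheafData) (g : ∀ z : Pts I, (St z.1).obj A)
    (hg : ∀ z, Function.Bijective fun r : X.presheaf.stalk z.1 => r • g z) :
    ∃ Φ : GA (baseHom k X) A →ₗ[k] locAlg I, (∀ (s : Γ(A, ⊤)) (z : Pts I) (r : X.presheaf.stalk z.1),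
      A.presheaf.germ ⊤ z.1 trivial s = r • g z → Φ s z = Ideal.Quotient.mk _ r) ∧
      (Module.finrank k (LinearMap.range Φ) : ℤ) = (Module.finrank k (Coh.HH X A 0) : ℤ) -
        (Module.finrank k (Coh.HH X (CohB1.tensorMod A (ClSub.idealMod I)) 0) : ℤ) := by
  haveI := isNoetherian_of_proper (X := X) k
  obtain ⟨Φ, hΦ⟩ := exists_coords k I A g (fun z v => (hg z).2 v) fun z r hr => by
    rw [(hg z).1 (hr.trans (zero_smul _ (g z)).symm)]; exact zero_mem _
  refine ⟨Φ, hΦ, ?_⟩
  obtain ⟨hm, hr⟩ := RamDiv8.twistIncl_spec hA I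
  haveI := hm
  let F := CohB1.tensorMod A (ClSub.idealMod I)
  let ι := RamDiv8.twistIncl A I
  let J : GA (baseHom k X) F →ₗ[k] GA (baseHom k X) A :=
    { toFun := fun s => ι.app ⊤ s
      map_add' := fun a b => map_add _ _ _
      map_smul' := fun c s => Scheme.Modules.Hom.app_smul ι (baseHom k X c) _ }
  have hdesc : ∀ s : Γ(F, ⊤), unitDesc F s ≫ ι = unitDesc A (ι.app ⊤ s) := fun s => by
    rw [← unitDesc_unitVal (unitDesc F s ≫ ι)]
    refine congrArg _ ?_
    show ι.app ⊤ (unitVal (unitDesc _ s) ⊤) = _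
    rw [unitVal_unitDesc, resM_self]
  have hJi : Function.Injective J := fun a b hab =>
    unitDesc_inj ((cancel_mono ι).1 ((hdesc a).trans ((congrArg (unitDesc A) hab).trans (hdesc b).symm)))
  have hker : LinearMap.ker Φ = LinearMap.range J := by
    ext s
    constructor
    · intro hs
      have hmem : ∀ x, A.presheaf.germ ⊤ x trivial (show Γ(A, ⊤) from s) ∈
          stk I x • (⊤ : Submodule (X.presheaf.stalk x) ((St x).obj A)) := fun x => by
        by_cases hx : x ∈ I.support
        · obtain ⟨r, hre⟩ := (hg ⟨x, hx⟩).2 (A.presheaf.germ ⊤ x trivial (show Γ(A, ⊤) from s))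
          have h0 := congrFun (LinearMap.mem_ker.1 hs) ⟨x, hx⟩
          rw [hΦ s ⟨x, hx⟩ r hre.symm] at h0
          exact Eq.subst (motive := fun t => t ∈ stk I x • (⊤ : Submodule (X.presheaf.stalk x) ((St x).obj A))) hre
            (Submodule.smul_mem_smul (Ideal.Quotient.eq_zero_iff_mem.1 h0) trivial)
        · rw [SDiv28.CartierPart.stk_eq_top hx, Submodule.top_smul]; trivial
      obtain ⟨g', hg'⟩ := exists_factor ι (unitDesc A (show Γ(A, ⊤) from s)) fun x => by
        rw [hr x]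
        rintro _ ⟨w, rfl⟩
        obtain ⟨c, rfl⟩ := (SDiv28.unitStalkEquiv x).surjective w
        exact Eq.subst (motive := fun t => t ∈ stk I x • (⊤ : Submodule (X.presheaf.stalk x) ((St x).obj A)))
          (InjMod14.stalk_unitDesc _ _ _ _).symm (Submodule.smul_mem _ c (hmem x))
      refine ⟨unitVal g' ⊤, unitDesc_inj ?_⟩
      show unitDesc A (ι.app ⊤ (unitVal g' ⊤)) = _
      rw [← hdesc, unitDesc_unitVal, hg']
    · rintro ⟨t, rfl⟩
      refine LinearMap.mem_ker.2 (funext fun z => ?_)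
      obtain ⟨r, hre⟩ := (hg z).2 (A.presheaf.germ ⊤ z.1 trivial (show Γ(A, ⊤) from J t))
      rw [hΦ _ z r hre.symm]
      refine Ideal.Quotient.eq_zero_iff_mem.2 ((smul_mem_iff _ (hg z) r).1 ?_)
      refine Eq.subst (motive := fun w => w ∈ stk I z.1 • (⊤ : Submodule (X.presheaf.stalk z.1) ((St z.1).obj A)))
        hre.symm ((hr z.1).le ⟨F.presheaf.germ ⊤ z.1 trivial (show Γ(F, ⊤) from t), ?_⟩)
      exact stalk_map_germ ι _ _
  have hAc : Coh.IsCoh A := PicLib.isCoh_of_isInvertible hA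
  haveI := CurveRR24.finite_HH_of_isCoh k hAc 0
  haveI : Module.Finite k (GA (baseHom k X) A) := Module.Finite.equiv (CurveRR24.hhZero k A)
  have h1 := LinearMap.finrank_range_add_finrank_ker Φ
  rw [hker, LinearMap.finrank_range_of_inj hJi, ← (CurveRR24.hhZero k A).finrank_eq,
    ← (CurveRR24.hhZero k F).finrank_eq] at h1
  show (Module.finrank k (LinearMap.range Φ) : ℤ) = (Module.finrank k (Coh.HH X A 0) : ℤ) -
        (Module.finrank k (Coh.HH X F 0) : ℤ)
  omega

/-- The product of local rings is a quotient of the functions on the subscheme. -/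
theorem finrank_locAlg_le [IsProper (X ↘ Spec (CommRingCat.of k))] (I : X.IdealSheafData)
    (hfin : (I.support : Set X).Finite) :
    Module.Finite k (locAlg I) ∧ (Module.finrank k (locAlg I) : ℤ) ≤ Curv2.euler k X (ClSub.quotMod I) := by
  classical
  haveI := isNoetherian_of_proper (X := X) k
  haveI : JacobsonSpace X := LocallyOfFiniteType.jacobsonSpace (X ↘ Spec (CommRingCat.of k))
  haveI : Finite (Pts I) := hfin.to_subtype
  haveI := Fintype.ofFinite (Pts I)
  let Q := ClSub.quotMod I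
  haveI := CurveRR24.epi_toSubscheme I
  have hsupp : CohB1.support Q ⊆ (I.support : Set X) := CurveRR24.support_quotMod_subset I
  let g : ∀ z : Pts I, (St z.1).obj Q := fun z => (St z.1).map (ClSub.toSubscheme I) (SDiv28.unitStalkEquiv z.1 1)
  have hone : ∀ x (r : X.presheaf.stalk x), SDiv28.unitStalkEquiv x r = r • SDiv28.unitStalkEquiv x 1 := fun x r => by
    rw [← map_smul, smul_eq_mul, mul_one]
  have hs : ∀ z v, ∃ r : X.presheaf.stalk z.1, r • g z = v := fun z v => by
    obtain ⟨w, rfl⟩ := (ModuleCat.epi_iff_surjective ((St z.1).map (ClSub.toSubscheme I))).1 inferInstance v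
    obtain ⟨r, rfl⟩ := (SDiv28.unitStalkEquiv z.1).surjective w
    exact ⟨r, (((St z.1).map (ClSub.toSubscheme I)).hom.map_smul r _).symm.trans (congrArg _ (hone z.1 r).symm)⟩
  have hu : ∀ z (r : X.presheaf.stalk z.1), r • g z = 0 → r ∈ stk I z.1 := fun z r hr => by
    have hex : (ShortComplex.mk (ClSub.idealModι I) (ClSub.toSubscheme I) (kernel.condition _)).Exact :=
      ShortComplex.exact_of_f_is_kernel _ (kernelIsKernel (ClSub.toSubscheme I))
    have h1 : (St z.1).map (ClSub.toSubscheme I) (SDiv28.unitStalkEquiv z.1 r) = 0 :=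
      (congrArg _ (hone z.1 r)).trans ((((St z.1).map (ClSub.toSubscheme I)).hom.map_smul r _).trans hr)
    have h2 := (RamDiv8.range_idealModι_stalk I z.1).le
      ((ShortComplex.moduleCat_exact_iff _).1 (hex.map (St z.1)) _ h1)
    have hb : Function.Bijective fun c : X.presheaf.stalk z.1 => c • SDiv28.unitStalkEquiv z.1 1 := by
      refine ⟨fun c d h => (SDiv28.unitStalkEquiv z.1).injective ((hone z.1 c).trans (h.trans (hone z.1 d).symm)),
        fun w => ?_⟩
      obtain ⟨c, rfl⟩ := (SDiv28.unitStalkEquiv z.1).surjective w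
      exact ⟨c, (hone z.1 c).symm⟩
    refine (smul_mem_iff _ hb r).1 ?_
    exact Eq.subst (motive := fun t => t ∈ stk I z.1 • (⊤ : Submodule (X.presheaf.stalk z.1) _)) (hone z.1 r) h2
  obtain ⟨Ψ, hΨ⟩ := exists_coords k I Q g hs hu
  have hsec : ∀ (z : Pts I) (v : (St z.1).obj Q), ∃ s : Γ(Q, ⊤), Q.presheaf.germ ⊤ z.1 trivial s = v ∧
      ∀ y : X, y ≠ z.1 → Q.presheaf.germ ⊤ y trivial s = 0 := fun z v => by
    obtain ⟨V, hzV, t, ht⟩ := Q.presheaf.exists_germ_eq (x := z.1) v
    have hz : IsClosed ({z.1} : Set X) := isClosed_singleton_of_finite I.support.2 hfin z.2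
    have hcl : IsClosed ((I.support : Set X) \ {z.1}) := by
      rw [← Set.biUnion_of_singleton ((I.support : Set X) \ {z.1})]
      exact (hfin.subset Set.sdiff_subset).isClosed_biUnion fun y hy =>
        isClosed_singleton_of_finite I.support.2 hfin hy.1
    let N : X.Opens := ⟨(V : Set X) ∩ ((I.support : Set X) \ {z.1})ᶜ, V.2.inter hcl.isOpen_compl⟩
    let O : X.Opens := ⟨({z.1} : Set X)ᶜ, hz.isOpen_compl⟩
    have hzN : z.1 ∈ N := ⟨hzV, fun h => h.2 rfl⟩
    have hNV : N ≤ V := fun y hy => hy.1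
    have hcov : N ⊔ O = ⊤ := top_le_iff.1 fun y _ => by
      by_cases h : y = z.1
      · exact Opens.mem_sup.2 (Or.inl (h ▸ hzN))
      · exact Opens.mem_sup.2 (Or.inr h)
    have hzero : ∀ (U : X.Opens) (y : X) (hy : y ∈ U) (s : Γ(Q, U)), y ∉ (I.support : Set X) →
        Q.presheaf.germ U y hy s = 0 := fun U y hy s hys => by
      haveI : Subsingleton (Q.presheaf.stalk y) := not_not.1 fun hne => hys (hsupp hne)
      exact Subsingleton.elim _ _
    obtain ⟨s, hs₁, hs₂⟩ := Coherent.exists_glue Q hcov (resM Q hNV t) 0 (sec_ext_germ Q _ _ fun y hy =>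
      (hzero _ y hy _ fun h => hy.1.2 ⟨h, hy.2⟩).trans (hzero _ y hy _ fun h => hy.1.2 ⟨h, hy.2⟩).symm)
    refine ⟨s, ?_, fun y hy => ?_⟩
    · have := congrArg (Q.presheaf.germ N z.1 hzN) hs₁
      rw [TopCat.Presheaf.germ_res_apply, TopCat.Presheaf.germ_res_apply] at this
      exact this.trans ht
    · have := congrArg (Q.presheaf.germ O y hy) hs₂
      rwa [TopCat.Presheaf.germ_res_apply, map_zero] at this
  have hsurj : Function.Surjective Ψ := fun f => by
    choose r hr using fun z => Ideal.Quotient.mk_surjective (f z)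
    choose s hsz hsy using fun z => hsec z (r z • g z)
    refine ⟨(∑ z, s z : Γ(Q, ⊤)), funext fun z => ?_⟩
    rw [← hr z]
    refine hΨ _ z (r z) ?_
    rw [map_sum, Finset.sum_eq_single z (fun z' _ hne => hsy z' z.1 fun h => hne (Subtype.ext h).symm)
      (fun h => absurd (Finset.mem_univ z) h), hsz]
  have hQc : Coh.IsCoh Q := CurveRR24.isCoh_quotMod I
  haveI := CurveRR24.finite_HH_of_isCoh k hQc 0
  haveI : Module.Finite k (GA (baseHom k X) Q) := Module.Finite.equiv (CurveRR24.hhZero k Q)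
  refine ⟨Module.Finite.of_surjective Ψ hsurj, ?_⟩
  rw [IntCM8.euler_eq_h0 k hQc (hfin.subset hsupp), (CurveRR24.hhZero k Q).finrank_eq]
  exact_mod_cast LinearMap.finrank_le_finrank_of_surjective hsurj

/-- **The pairing bound**: with the Cayley–Bacharach property for `A ⊗ B`, the ranks of evaluation of
`A` and of `B` add up to at most the length. -/
theorem rank_add_rank_le [IsAlgClosed k] [IsProper (X ↘ Spec (CommRingCat.of k))] [IsIntegral X]
    [Smooth (X ↘ Spec (CommRingCat.of k))] (hX : topologicalKrullDim X = ((2 : ℕ) : WithBot ℕ∞))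
    (I : X.IdealSheafData) (hfin : (I.support : Set X).Finite)
    (hlci : ∀ x : X, ∃ V : X.affineOpens, x ∈ (V : X.Opens) ∧ ∃ a b : Γ(X, V), I.ideal V = Ideal.span {a, b})
    {A B C : X.Modules} (hA : PicF.IsInvertible A) (hB : PicF.IsInvertible B) (hC : PicF.IsInvertible C)
    (e : CohB1.tensorMod A B ≅ C)
    (hCB : ∀ I' : X.IdealSheafData, I ⋖ I' → ∀ σ : Coh.structureModule X ⟶ C,
      PicF2.zeroScheme C σ ≤ I' → PicF2.zeroScheme C σ ≤ I) :
    ((Module.finrank k (Coh.HH X A 0) : ℤ) - (Module.finrank k (Coh.HH X (CohB1.tensorMod A (ClSub.idealMod I)) 0) : ℤ)) +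
      ((Module.finrank k (Coh.HH X B 0) : ℤ) - (Module.finrank k (Coh.HH X (CohB1.tensorMod B (ClSub.idealMod I)) 0) : ℤ)) ≤
      Curv2.euler k X (ClSub.quotMod I) := by
  classical
  haveI := isNoetherian_of_proper (X := X) k
  haveI : JacobsonSpace X := LocallyOfFiniteType.jacobsonSpace (X ↘ Spec (CommRingCat.of k))
  have hreg : ∀ x : X, IsRegularLocalRing (X.presheaf.stalk x) := fun x => RankOneHull.regular k x
  have hd2 : ∀ x : X, IsClosed ({x} : Set X) → ringKrullDim (X.presheaf.stalk x) = (2 : ℕ) := fun x hx =>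
    Surf15.ringKrullDim_stalk_closed k (Surf15.dim_components k hX) hx
  have hpts : ∀ x ∈ I.support, IsClosed ({x} : Set X) := fun x hx =>
    isClosed_singleton_of_finite I.support.2 hfin hx
  -- socle elements
  have hsocle : ∀ z : Pts I, ∃ Δ : X.presheaf.stalk z.1, Δ ∉ stk I z.1 ∧ Δ ∈ stk (socI I z.1 (hpts z.1 z.2)) z.1 ∧
      I ⋖ socI I z.1 (hpts z.1 z.2) ∧ ∀ r ∉ stk I z.1, ∃ s, s * r - Δ ∈ stk I z.1 := fun z => by
    haveI := hreg z.1
    obtain ⟨V, hzV, a, b, hV⟩ := hlci z.1
    have hJ : stk I z.1 = Ideal.span {X.presheaf.germ V.1 z.1 hzV a, X.presheaf.germ V.1 z.1 hzV b} := by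
      rw [stk_eq I V hzV, hV, Ideal.map_span, Set.image_pair]
    obtain ⟨n, hn⟩ := exists_pow_le_stk I hpts (x := z.1)
    obtain ⟨Δ, h1, h2, h3⟩ := exists_socle (hd2 z.1 (hpts z.1 z.2)) (by rw [← hJ]; exact hn)
      (by rw [← hJ]; exact (SDiv28.CartierPart.mem_support_iff_stk I z.1).1 z.2)
    rw [← hJ] at h1 h2 h3
    have hmult : ∀ K : Ideal (X.presheaf.stalk z.1), stk I z.1 ≤ K → ¬ K ≤ stk I z.1 → Δ ∈ K := fun K hK hK' => by
      obtain ⟨c₀, hc₀, hc₀'⟩ := SetLike.not_le_iff_exists.1 hK'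
      obtain ⟨c, hcK, hcJ, hcs⟩ := exists_mem_socle hn hc₀ hc₀'
      obtain ⟨t, ht⟩ := h3 c hcs
      have htu : IsUnit t := by
        by_contra htu
        exact hcJ (by simpa using add_mem ht (h2 t htu))
      refine (Ideal.unit_mul_mem_iff_mem _ htu).1 ?_
      simpa using sub_mem hcK (hK ht)
    have hΔs : Δ ∈ stk (socI I z.1 (hpts z.1 z.2)) z.1 := (mem_stk_socI I _ Δ).2 h2
    have hle : I ≤ socI I z.1 (hpts z.1 z.2) := le_iff_stk.2 fun y => by
      by_cases hy : y = z.1
      · subst hy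
        exact fun r hr => (mem_stk_socI I _ r).2 fun v _ => Ideal.mul_mem_left _ v hr
      · exact (stk_socI_ne I _ hy).ge
    refine ⟨Δ, h1, hΔs, ⟨lt_of_le_of_ne hle fun h => h1 (by rw [← h] at hΔs; exact hΔs), fun K hK hK' => ?_⟩, fun r hr => ?_⟩
    · obtain ⟨y, hy⟩ : ∃ y, ¬ stk K y ≤ stk I y := by
        by_contra hcon
        push Not at hcon
        exact hK.not_ge (le_iff_stk.2 hcon)
      by_cases hyz : y = z.1
      · subst hyz
        refine hK'.not_ge (le_iff_stk.2 fun w => ?_)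
        by_cases hw : w = z.1
        · subst hw
          intro r hr
          obtain ⟨t, ht⟩ := h3 r ((mem_stk_socI I _ r).1 hr)
          simpa using add_mem (le_iff_stk.1 hK.le z.1 ht)
            (Ideal.mul_mem_left _ t (hmult _ (le_iff_stk.1 hK.le z.1) hy))
        · rw [stk_socI_ne I _ hw]; exact le_iff_stk.1 hK.le w
      · exact hy ((le_iff_stk.1 hK'.le y).trans (stk_socI_ne I _ hyz).le)
    · obtain ⟨s, j, hj, hsj⟩ : ∃ s j, j ∈ stk I z.1 ∧ s * r + j = Δ := by
        have := hmult (Ideal.span {r} ⊔ stk I z.1) le_sup_right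
          fun h => hr (h (Ideal.mem_sup_left (Ideal.mem_span_singleton_self r)))
        obtain ⟨p, hp, j, hj, hpj⟩ := Submodule.mem_sup.1 this
        obtain ⟨s, rfl⟩ := Ideal.mem_span_singleton'.1 hp
        exact ⟨s, j, hj, hpj⟩
      exact ⟨s, by rw [← hsj, sub_add_cancel_left]; exact neg_mem hj⟩
  choose Δ hΔ hΔs hΔc hΔm using hsocle
  -- generators
  choose UA hUA gA hgA using fun z : Pts I => exists_isGen hA z.1
  choose UB hUB gB hgB using fun z : Pts I => exists_isGen hB z.1
  let U : Pts I → X.Opens := fun z => UA z ⊓ UB z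
  have hU : ∀ z, z.1 ∈ U z := fun z => ⟨hUA z, hUB z⟩
  let a' := fun z => resM A (inf_le_left : U z ≤ UA z) (gA z)
  let b' := fun z => resM B (inf_le_right : U z ≤ UB z) (gB z)
  have ha' : ∀ z, IsGen A (U z) (a' z) := fun z => (hgA z).restrict inf_le_left
  have hb' : ∀ z, IsGen B (U z) (b' z) := fun z => (hgB z).restrict inf_le_right
  let c' := fun z => e.hom.app (U z) (tmul (a' z) (b' z))
  have hc' : ∀ z, IsGen C (U z) (c' z) := fun z => isGen_map_iso e (isGen_tmul (ha' z) (hb' z))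
  obtain ⟨ΦA, hΦA, hrA⟩ := exists_eval k hA I (fun z => A.presheaf.germ (U z) z.1 (hU z) (a' z))
    fun z => VarietyLib.gen_germ_bijective (ha' z) (hU z)
  obtain ⟨ΦB, hΦB, hrB⟩ := exists_eval k hB I (fun z => B.presheaf.germ (U z) z.1 (hU z) (b' z))
    fun z => VarietyLib.gen_germ_bijective (hb' z) (hU z)
  obtain ⟨ΦC, hΦC, -⟩ := exists_eval k hC I (fun z => C.presheaf.germ (U z) z.1 (hU z) (c' z))
    fun z => VarietyLib.gen_germ_bijective (hc' z) (hU z)
  have hmul : ∀ s t, ΦA s * ΦB t ∈ LinearMap.range ΦC := fun s t => by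
    refine ⟨(e.hom.app ⊤ (tmul (show Γ(A, ⊤) from s) (show Γ(B, ⊤) from t)) : Γ(C, ⊤)), funext fun z => ?_⟩
    let a := (ha' z).coef le_rfl (resM A (le_top : U z ≤ ⊤) (show Γ(A, ⊤) from s))
    let b := (hb' z).coef le_rfl (resM B (le_top : U z ≤ ⊤) (show Γ(B, ⊤) from t))
    have hA' : resM A (le_top : U z ≤ ⊤) (show Γ(A, ⊤) from s) = a • a' z := by
      have h2 := (ha' z).coef_spec le_rfl (resM A (le_top : U z ≤ ⊤) (show Γ(A, ⊤) from s))
      rw [resM_self] at h2; exact h2.symm
    have hB' : resM B (le_top : U z ≤ ⊤) (show Γ(B, ⊤) from t) = b • b' z := by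
      have h2 := (hb' z).coef_spec le_rfl (resM B (le_top : U z ≤ ⊤) (show Γ(B, ⊤) from t))
      rw [resM_self] at h2; exact h2.symm
    have gA' : A.presheaf.germ ⊤ z.1 trivial (show Γ(A, ⊤) from s) =
        X.presheaf.germ (U z) z.1 (hU z) a • A.presheaf.germ (U z) z.1 (hU z) (a' z) := by
      rw [← QCohLoc.germ_smul' (M := A) (hU z), ← hA']
      exact (A.presheaf.germ_res_apply (homOfLE (le_top (a := U z))) z.1 (hU z) _).symm
    have gB' : B.presheaf.germ ⊤ z.1 trivial (show Γ(B, ⊤) from t) =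
        X.presheaf.germ (U z) z.1 (hU z) b • B.presheaf.germ (U z) z.1 (hU z) (b' z) := by
      rw [← QCohLoc.germ_smul' (M := B) (hU z), ← hB']
      exact (B.presheaf.germ_res_apply (homOfLE (le_top (a := U z))) z.1 (hU z) _).symm
    show ΦC _ z = ΦA s z * ΦB t z
    rw [hΦA _ z _ gA', hΦB _ z _ gB', ← map_mul, ← map_mul]
    refine hΦC _ z _ ?_
    refine (C.presheaf.germ_res_apply (homOfLE (le_top (a := U z))) z.1 (hU z) _).symm.trans
      (Eq.trans (congrArg _ ?_) (QCohLoc.germ_smul' (M := C) (hU z) _ _))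
    refine (app_resM e.hom (le_top : U z ≤ ⊤) _).symm.trans ?_
    rw [resM_tmul, hA', hB', tmul_smul_smul]
    exact Scheme.Modules.Hom.app_smul e.hom _ _
  -- the socle elements avoid the image
  have havoid : ∀ z, Pi.single z (Ideal.Quotient.mk (stk I z.1) (Δ z)) ∉ LinearMap.range ΦC := fun z => by
    rintro ⟨s, hs⟩
    obtain ⟨hm, hr⟩ := RamDiv8.twistIncl_spec hC I
    obtain ⟨hm', hr'⟩ := RamDiv8.twistIncl_spec hC (socI I z.1 (hpts z.1 z.2))
    haveI := hm'
    let σ := unitDesc C (show Γ(C, ⊤) from s)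
    have hσ : ∀ x c, (St x).map σ (SDiv28.unitStalkEquiv x c) =
        c • C.presheaf.germ ⊤ x trivial (show Γ(C, ⊤) from s) := fun x c => InjMod14.stalk_unitDesc _ _ _ _
    have h1 : PicF2.zeroScheme C σ ≤ socI I z.1 (hpts z.1 z.2) := (exists_lift_iff_le hC _ σ).1
      (exists_factor _ σ fun x => by
        rw [hr' x]
        rintro _ ⟨w, rfl⟩
        obtain ⟨c, rfl⟩ := (SDiv28.unitStalkEquiv x).surjective w
        refine Eq.subst (motive := fun t => t ∈ stk (socI I z.1 (hpts z.1 z.2)) x •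
          (⊤ : Submodule (X.presheaf.stalk x) ((St x).obj C))) (hσ x c).symm (Submodule.smul_mem _ c ?_)
        by_cases hx : x ∈ I.support
        · obtain ⟨r, hre⟩ := (VarietyLib.gen_germ_bijective (hc' ⟨x, hx⟩) (hU ⟨x, hx⟩)).2
            (C.presheaf.germ ⊤ x trivial (show Γ(C, ⊤) from s))
          have hzero := (congrFun hs ⟨x, hx⟩).symm.trans (hΦC _ ⟨x, hx⟩ r hre.symm)
          refine Eq.subst (motive := fun t => t ∈ stk (socI I z.1 (hpts z.1 z.2)) x •
            (⊤ : Submodule (X.presheaf.stalk x) ((St x).obj C))) hre (Submodule.smul_mem_smul ?_ trivial)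
          by_cases hxz : (⟨x, hx⟩ : Pts I) = z
          · subst hxz
            rw [Pi.single_eq_same] at hzero
            have hd : Δ ⟨x, hx⟩ - r ∈ stk I x := Ideal.Quotient.eq.1 hzero
            have := sub_mem (hΔs ⟨x, hx⟩) (le_iff_stk.1 (hΔc ⟨x, hx⟩).le x hd)
            rwa [sub_sub_cancel] at this
          · rw [Pi.single_eq_of_ne hxz] at hzero
            exact le_iff_stk.1 (hΔc z).le x (Ideal.Quotient.eq_zero_iff_mem.1 hzero.symm)
        · rw [stk_socI_ne I _ (fun h => hx (by rw [h]; exact z.2)), SDiv28.CartierPart.stk_eq_top hx, Submodule.top_smul]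
          trivial)
    obtain ⟨g, hg⟩ := (exists_lift_iff_le hC I σ).2 (hCB _ (hΔc z) σ h1)
    obtain ⟨r, hre⟩ := (VarietyLib.gen_germ_bijective (hc' z) (hU z)).2
      (C.presheaf.germ ⊤ z.1 trivial (show Γ(C, ⊤) from s))
    have hrI : r ∈ stk I z.1 := by
      refine (smul_mem_iff _ (VarietyLib.gen_germ_bijective (hc' z) (hU z)) r).1 ?_
      refine Eq.subst (motive := fun t => t ∈ stk I z.1 • (⊤ : Submodule (X.presheaf.stalk z.1) ((St z.1).obj C)))
        hre.symm ((hr z.1).le ⟨(St z.1).map g (SDiv28.unitStalkEquiv z.1 1), ?_⟩)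
      refine Eq.trans ?_ ((hσ z.1 1).trans (one_smul _ _))
      rw [← hg, Functor.map_comp]
      rfl
    have hzero := (congrFun hs z).symm.trans (hΦC _ z r hre.symm)
    rw [Pi.single_eq_same, Ideal.Quotient.eq_zero_iff_mem.2 hrI] at hzero
    exact hΔ z (Ideal.Quotient.eq_zero_iff_mem.1 hzero)
  obtain ⟨hfinR, hlen⟩ := finrank_locAlg_le k I hfin
  haveI := hfinR
  haveI : Infinite k := IsAlgClosed.instInfinite
  haveI : Finite (Pts I) := hfin.to_subtype
  obtain ⟨φ, hφ0, hφ⟩ := exists_dual_avoid (LinearMap.range ΦC) _ havoid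
  let L : locAlg I →ₗ[k] Module.Dual k (locAlg I) := (LinearMap.mul k (locAlg I)).compr₂ φ
  have hL : Function.Injective L := (injective_iff_map_eq_zero L).2 fun f hf => funext fun z => by
    by_contra hfz
    obtain ⟨r, hr⟩ := Ideal.Quotient.mk_surjective (f z)
    obtain ⟨s, hs⟩ := hΔm z r fun h => hfz (hr.symm.trans (Ideal.Quotient.eq_zero_iff_mem.2 h))
    refine hφ z ?_
    have heq : f * Pi.single z (Ideal.Quotient.mk _ s) = Pi.single z (Ideal.Quotient.mk (stk I z.1) (Δ z)) := by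
      funext w
      by_cases hw : w = z
      · subst hw
        rw [Pi.mul_apply, Pi.single_eq_same, Pi.single_eq_same, ← hr, ← map_mul, mul_comm r s]
        exact Ideal.Quotient.eq.2 hs
      · rw [Pi.mul_apply, Pi.single_eq_of_ne hw, Pi.single_eq_of_ne hw, mul_zero]
    rw [← heq]
    exact LinearMap.congr_fun hf _
  have hle : (LinearMap.range ΦA).map L ≤ (LinearMap.range ΦB).dualAnnihilator := by
    rintro _ ⟨_, ⟨s, rfl⟩, rfl⟩
    refine (Submodule.mem_dualAnnihilator _).2 ?_
    rintro _ ⟨t, rfl⟩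
    exact hφ0 _ (hmul s t)
  have h1 := Submodule.finrank_mono hle
  rw [← (Submodule.equivMapOfInjective L hL (LinearMap.range ΦA)).finrank_eq] at h1
  have h2 := Subspace.finrank_add_finrank_dualAnnihilator_eq (LinearMap.range ΦB)
  omega

end Groth.Agent.Mod22.CB
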