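import Groth.Agent.InjMod14.StalkInjective
import Groth.Agent.InjMod14.ExtShInjective
import Groth.Agent.ModStalk.Exact
import Groth.Agent.CurveRR24.Sky
import Groth.Agent.Coherent.Affineness
import Groth.Agent.Coherent.Devissage
import Mathlib.Algebra.Homology.DerivedCategory.Ext.Map
import Mathlib.Algebra.Homology.DerivedCategory.Ext.EnoughInjectives
import Mathlib.Algebra.Category.ModuleCat.Ext.HasExt

/-!
# `Ext` out of a module supported at a closed point is computed in the local ring
-/

set_option autoImplicit false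
set_option linter.style.haveILetI false
set_option backward.isDefEq.respectTransparency false
set_option backward.isDefEq.respectTransparency.types false
set_option maxHeartbeats 1000000

universe u

open CategoryTheory CategoryTheory.Abelian CategoryTheory.Limits AlgebraicGeometry Opposite TopologicalSpace
open Groth.Agent.Coherent Groth.Agent.PicLib Groth.Agent.AmpleLib

namespace Groth.Agent.Mod22.CB

variable {X : Scheme.{u}}

local notation "St" => DerSch.stalkFunctor X

/-- Sections with equal germs are equal. -/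
theorem sec_ext_germ (M : X.Modules) {U : X.Opens} (a b : Γ(M, U))
    (h : ∀ y (hy : y ∈ U), M.presheaf.germ U y hy a = M.presheaf.germ U y hy b) : a = b :=
  TopCat.Presheaf.section_ext (⟨M.presheaf, M.isSheaf⟩ : TopCat.Sheaf Ab X) U a b h

/-- Maps with equal stalks are equal. -/
theorem hom_ext_stalk {M N : X.Modules} (f g : M ⟶ N) (h : ∀ x, (St x).map f = (St x).map g) : f = g :=
  Scheme.Modules.hom_ext _ _ fun U => ConcreteCategory.hom_ext _ _ fun a => sec_ext_germ N _ _ fun y hy => by
    have e := congrArg (fun t => t (M.presheaf.germ U y hy a)) (h y)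
    exact (stalk_map_germ f hy a).symm.trans (e.trans (stalk_map_germ g hy a))

/-- A germ killed by the maximal ideal at a closed point extends to a section vanishing elsewhere. -/
theorem exists_section_point [IsLocallyNoetherian X] (G : X.Modules) {x : X} (hx : IsClosed ({x} : Set X))
    (g : (St x).obj G) (hg : ∀ a ∈ IsLocalRing.maximalIdeal (X.presheaf.stalk x), a • g = 0) :
    ∃ s : Γ(G, ⊤), G.presheaf.germ ⊤ x trivial s = g ∧ ∀ y, y ≠ x → G.presheaf.germ ⊤ y trivial s = 0 := by
  classical
  obtain ⟨V, hxV, t, ht⟩ := G.presheaf.exists_germ_eq (x := x) g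
  obtain ⟨W, hW, hxW, hWV⟩ := exists_isAffineOpen_mem_and_subset (x := x) (U := V) hxV
  haveI : IsNoetherianRing Γ(X, W) := IsLocallyNoetherian.component_noetherian ⟨W, hW⟩
  let P := (hW.primeIdealOf ⟨x, hxW⟩).asIdeal
  haveI hP : P.IsMaximal := hW.primeIdealOf_isMaximal_of_isClosed ⟨x, hxW⟩ hx
  have hunit : ∀ (y : X) (hy : y ∈ W) (a : Γ(X, W)),
      IsUnit (X.presheaf.germ W y hy a) ↔ a ∉ (hW.primeIdealOf ⟨y, hy⟩).asIdeal := fun y hy a => by
    letI := (X.presheaf.germ W y hy).hom.toAlgebra
    haveI := hW.isLocalization_stalk ⟨y, hy⟩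
    exact IsLocalization.AtPrime.isUnit_to_map_iff (X.presheaf.stalk y)
      (hW.primeIdealOf ⟨y, hy⟩).asIdeal a
  let t' := resM G hWV t
  have ht' : G.presheaf.germ W x hxW t' = g := (G.presheaf.germ_res_apply _ x hxW t).trans ht
  obtain ⟨n, A, hA⟩ := Submodule.fg_iff_exists_fin_generating_family.1 (IsNoetherian.noetherian P)
  have hz : ∀ i, G.presheaf.germ W x hxW (A i • t') = 0 := fun i => by
    rw [QCohLoc.germ_smul' (M := G) hxW, ht']
    refine hg _ ((IsLocalRing.mem_maximalIdeal _).2 fun hu => (hunit x hxW _).1 hu ?_)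
    exact hA.le (Submodule.subset_span ⟨i, rfl⟩)
  choose U hxU iU iU' hU using fun i => G.presheaf.germ_eq x hxW hxW (A i • t') 0
    ((hz i).trans (map_zero _).symm)
  let W' : X.Opens := ⟨(W : Set X) ∩ ⋂ i, (U i : Set X), W.2.inter (isOpen_iInter_of_finite fun i => (U i).2)⟩
  have hW' : W' ≤ W := fun y hy => hy.1
  have hxW' : x ∈ W' := ⟨hxW, Set.mem_iInter.2 hxU⟩
  -- away from `x` the section vanishes on `W'`
  have hoff : ∀ y (hy : y ∈ W'), y ≠ x → G.presheaf.germ W y (hW' hy) t' = 0 := fun y hy hne => by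
    obtain ⟨i, hi⟩ : ∃ i, A i ∉ (hW.primeIdealOf ⟨y, hW' hy⟩).asIdeal := by
      by_contra hcon
      push Not at hcon
      refine hne ?_
      have hle : P ≤ (hW.primeIdealOf ⟨y, hW' hy⟩).asIdeal := by
        rw [← hA]; exact Submodule.span_le.2 (Set.range_subset_iff.2 hcon)
      have heq := PrimeSpectrum.ext (hP.eq_of_le (hW.primeIdealOf ⟨y, hW' hy⟩).2.ne_top hle)
      exact (hW.fromSpec_primeIdealOf ⟨y, hW' hy⟩).symm.trans
        ((congrArg (fun p => hW.fromSpec p) heq).symm.trans (hW.fromSpec_primeIdealOf ⟨x, hxW⟩))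
    have hyU : y ∈ U i := Set.mem_iInter.1 hy.2 i
    have h0 : G.presheaf.germ W y (hW' hy) (A i • t') = 0 := by
      have e := congrArg (G.presheaf.germ (U i) y hyU) (hU i)
      rw [TopCat.Presheaf.germ_res_apply, TopCat.Presheaf.germ_res_apply, map_zero] at e
      exact e
    rw [QCohLoc.germ_smul' (M := G) (hW' hy)] at h0
    exact ((hunit y (hW' hy) (A i)).2 hi).smul_eq_zero.1 h0
  let O : X.Opens := ⟨({x} : Set X)ᶜ, hx.isOpen_compl⟩
  have hcov : W' ⊔ O = ⊤ := top_le_iff.1 fun y _ => by
    by_cases h : y = x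
    · exact Opens.mem_sup.2 (Or.inl (h ▸ hxW'))
    · exact Opens.mem_sup.2 (Or.inr h)
  obtain ⟨s, hs₁, hs₂⟩ := Coherent.exists_glue G hcov (resM G hW' t') 0 (sec_ext_germ G _ _ fun y hy => by
    refine (G.presheaf.germ_res_apply _ y hy _).trans ((G.presheaf.germ_res_apply _ y _ _).trans ?_)
    rw [hoff y hy.1 hy.2, map_zero, map_zero])
  refine ⟨s, ?_, fun y hy => ?_⟩
  · have := congrArg (G.presheaf.germ W' x hxW') hs₁
    rw [TopCat.Presheaf.germ_res_apply, TopCat.Presheaf.germ_res_apply] at this
    exact this.trans ht'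
  · have := congrArg (G.presheaf.germ O y hy) hs₂
    rwa [TopCat.Presheaf.germ_res_apply, map_zero] at this

/-- A cyclic module at a closed point with residue field stalk. -/
structure PointMod (x : X) (Q : X.Modules) : Prop where
  closed : IsClosed ({x} : Set X)
  off : ∀ y, y ≠ x → Subsingleton ((St y).obj Q)
  ann : ∀ a ∈ IsLocalRing.maximalIdeal (X.presheaf.stalk x), ∀ q : (St x).obj Q, a • q = 0
  cyclic : ∃ p : Coh.structureModule X ⟶ Q, Epi p

/-- Maps out of a point module are determined at the point. -/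
theorem PointMod.hom_ext {x : X} {Q : X.Modules} (hQ : PointMod x Q) {G : X.Modules} {f g : Q ⟶ G}
    (h : (St x).map f = (St x).map g) : f = g :=
  hom_ext_stalk f g fun y => by
    by_cases hy : y = x
    · subst hy; exact h
    · haveI := hQ.off y hy
      refine ModuleCat.hom_ext (LinearMap.ext fun v => ?_)
      rw [Subsingleton.elim v 0, map_zero, map_zero]

/-- Every map of stalks comes from a map. -/
theorem PointMod.exists_hom [IsLocallyNoetherian X] {x : X} {Q : X.Modules} (hQ : PointMod x Q)
    {G : X.Modules} (φ : (St x).obj Q ⟶ (St x).obj G) : ∃ f : Q ⟶ G, (St x).map f = φ := by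
  obtain ⟨p, hp⟩ := hQ.cyclic
  haveI := hp
  let q₁ := (St x).map p (SDiv28.unitStalkEquiv x 1)
  obtain ⟨s, hsx, hsy⟩ := exists_section_point G hQ.closed (φ q₁) fun a ha => by
    rw [← map_smul, hQ.ann a ha, map_zero]
  have hpx : ∀ c, (St x).map p (SDiv28.unitStalkEquiv x c) = c • q₁ := fun c => by
    refine Eq.trans (congrArg ((St x).map p).hom ?_) (((St x).map p).hom.map_smul c _)
    exact (congrArg (SDiv28.unitStalkEquiv x) (mul_one c).symm).trans
      ((SDiv28.unitStalkEquiv x).map_smul c 1)
  have hker : kernel.ι p ≫ unitDesc G s = 0 := hom_ext_stalk _ _ fun y => by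
    refine ModuleCat.hom_ext (LinearMap.ext fun v => ?_)
    rw [Functor.map_comp, Functor.map_zero]
    obtain ⟨c, hc⟩ := (SDiv28.unitStalkEquiv y).surjective ((St y).map (kernel.ι p) v)
    show (St y).map (unitDesc G s) ((St y).map (kernel.ι p) v) = 0
    rw [← hc, InjMod14.stalk_unitDesc]
    by_cases hy : y = x
    · subst hy
      have h0 : (St y).map p ((St y).map (kernel.ι p) v) = 0 := by
        rw [← ModuleCat.comp_apply, ← Functor.map_comp, kernel.condition, Functor.map_zero]
        rfl
      rw [← hc, hpx] at h0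
      rw [hsx]
      exact (φ.hom.map_smul c q₁).symm.trans ((congrArg φ.hom h0).trans (map_zero _))
    · rw [hsy y hy, smul_zero]
  let f := Abelian.epiDesc p (unitDesc G s) (by exact hker)
  refine ⟨f, ModuleCat.hom_ext (LinearMap.ext fun v => ?_)⟩
  obtain ⟨w, rfl⟩ := (ModuleCat.epi_iff_surjective ((St x).map p)).1 inferInstance v
  obtain ⟨c, rfl⟩ := (SDiv28.unitStalkEquiv x).surjective w
  show (St x).map f ((St x).map p (SDiv28.unitStalkEquiv x c)) = _
  rw [← ModuleCat.comp_apply, ← Functor.map_comp, Abelian.comp_epiDesc, InjMod14.stalk_unitDesc, hsx]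
  show c • φ q₁ = φ ((St x).map p (SDiv28.unitStalkEquiv x c))
  rw [hpx, map_smul]

variable [HasExt.{u} X.Modules]

/-- A class of degree one out of a point module vanishing at the point vanishes. -/
theorem PointMod.ext_one_eq_zero [IsLocallyNoetherian X] {x : X} {Q : X.Modules} (hQ : PointMod x Q)
    {G : X.Modules} (y : Ext Q G 1) (hy : y.mapExactFunctor (St x) = 0) : y = 0 := by
  haveI := SerreDual.enoughInjectives_modules X
  let T := ShortComplex.mk (Injective.ι G) (cokernel.π (Injective.ι G)) (cokernel.condition _)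
  have hT : T.ShortExact :=
    { exact := ShortComplex.exact_cokernel _
      mono_f := inferInstanceAs (Mono (Injective.ι G))
      epi_g := inferInstanceAs (Epi (cokernel.π (Injective.ι G))) }
  haveI : Injective T.X₂ := inferInstanceAs (Injective (Injective.under G))
  obtain ⟨z, rfl⟩ := Ext.covariant_sequence_exact₁ Q hT y (Ext.eq_zero_of_injective _) (zero_add 1)
  rw [Ext.mapExactFunctor_comp, Ext.mapExactFunctor_extClass] at hy
  obtain ⟨w, hw⟩ := Ext.covariant_sequence_exact₃ _ (hT.map_of_exact (St x)) _ (zero_add 1) hy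
  obtain ⟨φ, rfl⟩ := (Ext.mk₀_bijective _ _).2 z
  obtain ⟨ψ, rfl⟩ := (Ext.mk₀_bijective _ _).2 w
  obtain ⟨f, hf⟩ := hQ.exists_hom (G := T.X₂) ψ
  rw [Ext.mapExactFunctor_mk₀, Ext.mk₀_comp_mk₀] at hw
  have : f ≫ T.g = φ := hQ.hom_ext (by
    rw [Functor.map_comp, hf]; exact (Ext.mk₀_bijective _ _).1 hw)
  rw [← this, ← Ext.mk₀_comp_mk₀, Ext.comp_assoc_of_second_deg_zero, hT.comp_extClass, Ext.comp_zero]

/-- A class of degree two out of a point module vanishing at the point vanishes. -/
theorem PointMod.ext_two_eq_zero [IsLocallyNoetherian X] {x : X} {Q : X.Modules} (hQ : PointMod x Q)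
    {G : X.Modules} (y : Ext Q G 2) (hy : y.mapExactFunctor (St x) = 0) : y = 0 := by
  haveI := SerreDual.enoughInjectives_modules X
  let T := ShortComplex.mk (Injective.ι G) (cokernel.π (Injective.ι G)) (cokernel.condition _)
  have hT : T.ShortExact :=
    { exact := ShortComplex.exact_cokernel _
      mono_f := inferInstanceAs (Mono (Injective.ι G))
      epi_g := inferInstanceAs (Epi (cokernel.π (Injective.ι G))) }
  haveI : Injective T.X₂ := inferInstanceAs (Injective (Injective.under G))
  haveI : Injective (T.map (St x)).X₂ :=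
    Module.injective_object_of_injective_module (inj := InjMod14.injective_stalk T.X₂ x) _ _
  obtain ⟨z, rfl⟩ := Ext.covariant_sequence_exact₁ Q hT y (Ext.eq_zero_of_injective _) (n₀ := 1) rfl
  rw [Ext.mapExactFunctor_comp, Ext.mapExactFunctor_extClass] at hy
  obtain ⟨w, hw⟩ := Ext.covariant_sequence_exact₃ _ (hT.map_of_exact (St x)) _ rfl hy
  rw [Ext.eq_zero_of_injective w, Ext.zero_comp] at hw
  rw [hQ.ext_one_eq_zero z hw.symm, Ext.zero_comp]

end Groth.Agent.Mod22.CB
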