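import Groth.Agent.Mod22.CB.PointExt
import Groth.Agent.TFPush7.RankOneNodal
import Groth.Agent.HodgeQ27.Restrict
import Groth.Agent.CurveRR24.Point
import Groth.Agent.CurveRR24.Degree
import Groth.Agent.CAlgH3.IdealPowVanish
import Groth.Prelude.Def_CurvBase

/-!
# Sections of an invertible sheaf through a finite set of closed points
-/

set_option autoImplicit false
set_option linter.style.haveILetI false
set_option backward.isDefEq.respectTransparency false
set_option backward.isDefEq.respectTransparency.types false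
set_option maxHeartbeats 1000000

universe u

open CategoryTheory CategoryTheory.Abelian CategoryTheory.Limits AlgebraicGeometry Opposite TopologicalSpace
open Groth.Agent.Coherent Groth.Agent.PicLib Groth.Agent.AmpleLib Groth.Agent.EulerLib
open IsLocalRing

namespace Groth.Agent.Mod22.CB

variable {X : Scheme.{u}}

local notation "St" => DerSch.stalkFunctor X

/-- The twist of the ideal of a closed set. -/
noncomputable abbrev Tw (A : X.Modules) (Z : Closeds X) : X.Modules :=
  CohB1.tensorMod (ClSub.idealMod (Scheme.IdealSheafData.vanishingIdeal Z)) A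

/-- Its inclusion. -/
noncomputable abbrev twι (A : X.Modules) (Z : Closeds X) : Tw A Z ⟶ A :=
  AmpleLib.twistMul (Scheme.IdealSheafData.vanishingIdeal Z) A

theorem range_twι_off (A : X.Modules) (Z : Closeds X) {x : X} (hx : x ∉ Z) :
    LinearMap.range ((St x).map (twι A Z)).hom = ⊤ :=
  TFPush7.range_twistMul_eq_top (Scheme.IdealSheafData.vanishingIdeal Z) A (y := x) (fun h => hx (by
    rwa [← SetLike.mem_coe, Scheme.IdealSheafData.coe_support_vanishingIdeal] at h))

theorem range_twι_mem {A : X.Modules} (hA : PicF.IsInvertible A) (Z : Closeds X) (hfin : (Z : Set X).Finite)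
    (hpts : ∀ z ∈ Z, IsClosed ({z} : Set X)) {x : X} (hx : x ∈ Z) :
    LinearMap.range ((St x).map (twι A Z)).hom = maximalIdeal (X.presheaf.stalk x) • ⊤ := by
  refine le_antisymm (TFPush7.range_twistMul_le (Scheme.IdealSheafData.vanishingIdeal Z) A hA (y := x) ?_) ?_
  · rw [← SetLike.mem_coe, Scheme.IdealSheafData.coe_support_vanishingIdeal]
    exact hx
  · have hcl : IsClosed ((Z : Set X) \ {x}) := by
      rw [← Set.biUnion_of_singleton ((Z : Set X) \ {x})]
      exact (hfin.subset Set.sdiff_subset).isClosed_biUnion fun z hz => hpts z hz.1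
    exact TFPush7.le_range_twistMul A (N := ⟨((Z : Set X) \ {x})ᶜ, hcl.isOpen_compl⟩) (fun h => h.2 rfl)
      fun z hz hzZ => by
        by_contra hne
        exact hz ⟨hzZ, hne⟩

theorem mono_twι {A : X.Modules} (hA : PicF.IsInvertible A) (Z : Closeds X) : Mono (twι A Z) :=
  CAlgH3.IdealPowVanish.mono_twistMul _ hA

/-- A map factors through a monomorphism if it does so stalkwise. -/
theorem exists_factor {M N A : X.Modules} (i : M ⟶ A) [Mono i] (f : N ⟶ A)
    (h : ∀ x, LinearMap.range ((St x).map f).hom ≤ LinearMap.range ((St x).map i).hom) :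
    ∃ g : N ⟶ M, g ≫ i = f := by
  have hz : f ≫ cokernel.π i = 0 := hom_ext_stalk _ _ fun x => by
    refine ModuleCat.hom_ext (LinearMap.ext fun v => ?_)
    obtain ⟨w, hw⟩ := h x ⟨v, rfl⟩
    rw [Functor.map_comp, Functor.map_zero]
    show (St x).map (cokernel.π i) ((St x).map f v) = 0
    rw [show (St x).map f v = (St x).map i w from hw.symm, ← ModuleCat.comp_apply, ← Functor.map_comp,
      cokernel.condition, Functor.map_zero]
    rfl
  exact ⟨Abelian.monoLift i f hz, Abelian.monoLift_comp i f hz⟩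

theorem mono_of_stalk {M N : X.Modules} (f : M ⟶ N) (h : ∀ x, Mono ((St x).map f)) : Mono f :=
  ⟨fun a b hab => hom_ext_stalk a b fun x => by
    haveI := h x
    rw [← cancel_mono ((St x).map f), ← Functor.map_comp, hab, Functor.map_comp]⟩

theorem epi_of_stalk {M N : X.Modules} (f : M ⟶ N) (h : ∀ x, Epi ((St x).map f)) : Epi f :=
  ⟨fun a b hab => hom_ext_stalk a b fun x => by
    haveI := h x
    rw [← cancel_epi ((St x).map f), ← Functor.map_comp, hab, Functor.map_comp]⟩

/-- A section fails to generate exactly where its germ lies in `m · A`. -/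
theorem notMem_glocus_iff {A : X.Modules} (hA : PicF.IsInvertible A) (a : Γ(A, ⊤)) (x : X) :
    x ∉ glocus A a ↔ A.presheaf.germ ⊤ x trivial a ∈
      maximalIdeal (X.presheaf.stalk x) • (⊤ : Submodule (X.presheaf.stalk x) (A.presheaf.stalk x)) := by
  obtain ⟨U, hxU, g, hg⟩ := exists_isGen hA x
  let c := hg.coef le_rfl (resM A le_top a)
  have hb := VarietyLib.gen_germ_bijective hg hxU
  have hc : A.presheaf.germ ⊤ x trivial a = X.presheaf.germ U x hxU c • A.presheaf.germ U x hxU g := by
    rw [← QCohLoc.germ_smul' (M := A) hxU, ← A.presheaf.germ_res_apply (homOfLE (le_top (a := U))) x hxU a]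
    have h2 := hg.coef_spec le_rfl (resM A le_top a)
    rw [resM_self] at h2
    exact congrArg _ h2.symm
  have hmem : x ∈ glocus A a ↔ IsUnit (X.presheaf.germ U x hxU c) := by
    rw [← Scheme.mem_basicOpen, ← glocus_inf a hg]
    exact ⟨fun h => ⟨h, hxU⟩, fun h => h.1⟩
  rw [hmem, hc]
  constructor
  · exact fun h => Submodule.smul_mem_smul ((mem_maximalIdeal _).2 h) trivial
  · intro h hu
    have htop : (A.presheaf.germ U x hxU g) ∈
        maximalIdeal (X.presheaf.stalk x) • (⊤ : Submodule (X.presheaf.stalk x) (A.presheaf.stalk x)) := by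
      have := Submodule.smul_mem _ ((hu.unit⁻¹ : _ˣ) : X.presheaf.stalk x) h
      rwa [smul_smul, IsUnit.val_inv_mul, one_smul] at this
    have hle : maximalIdeal (X.presheaf.stalk x) • (⊤ : Submodule (X.presheaf.stalk x) (A.presheaf.stalk x)) ≤
        Submodule.map (LinearMap.toSpanSingleton _ _ (A.presheaf.germ U x hxU g)) (maximalIdeal _) :=
      Submodule.smul_le.2 fun r hr v _ => by
        obtain ⟨s, rfl⟩ := hb.2 v
        exact ⟨r * s, Ideal.mul_mem_right _ _ hr, mul_smul r s _⟩
    obtain ⟨r, hr, hrg⟩ := hle htop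
    have : r = 1 := hb.1 (hrg.trans (one_smul _ _).symm)
    exact (maximalIdeal.isMaximal _).ne_top ((Ideal.eq_top_iff_one _).2 (this ▸ hr))

/-- Sections of the twist are the sections vanishing at the points. -/
theorem exists_lift_iff {A : X.Modules} (hA : PicF.IsInvertible A) (Z : Closeds X) (hfin : (Z : Set X).Finite)
    (hpts : ∀ z ∈ Z, IsClosed ({z} : Set X)) (σ : Coh.structureModule X ⟶ A) :
    (∃ g, g ≫ twι A Z = σ) ↔ ∀ z ∈ Z, z ∈ (PicF2.zeroScheme A σ).support := by
  haveI := mono_twι hA Z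
  have hσ : ∀ x, (St x).map σ (SDiv28.unitStalkEquiv x 1) = A.presheaf.germ ⊤ x trivial (unitVal σ ⊤) :=
    fun x => by
      conv_lhs => rw [← unitDesc_unitVal σ]
      rw [InjMod14.stalk_unitDesc, one_smul]
  simp only [HodgeQ27.mem_support_zeroScheme_iff hA, notMem_glocus_iff hA]
  constructor
  · rintro ⟨g, rfl⟩ z hz
    rw [← hσ, ← range_twι_mem hA Z hfin hpts hz]
    exact ⟨(St z).map g (SDiv28.unitStalkEquiv z 1), by
      rw [Functor.map_comp]; rfl⟩
  · intro h
    refine exists_factor (twι A Z) σ fun x => ?_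
    by_cases hx : x ∈ Z
    · rw [range_twι_mem hA Z hfin hpts hx]
      rintro _ ⟨v, rfl⟩
      obtain ⟨c, rfl⟩ := (SDiv28.unitStalkEquiv x).surjective v
      have e : (St x).map σ (SDiv28.unitStalkEquiv x c) =
          c • A.presheaf.germ ⊤ x trivial (unitVal σ ⊤) := by
        conv_lhs => rw [← unitDesc_unitVal σ]
        exact InjMod14.stalk_unitDesc _ _ _ _
      exact Eq.subst (motive := fun t => t ∈ maximalIdeal (X.presheaf.stalk x) • (⊤ : Submodule _ _)) e.symm
        (Submodule.smul_mem _ c (h x hx))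
    · rw [range_twι_off A Z hx]
      exact le_top

/-- The quotient by the condition at one more point is a point module. -/
theorem pointMod_cokernel [IsLocallyNoetherian X] {A : X.Modules} (hA : PicF.IsInvertible A)
    (Z Z' : Closeds X) (hfin : (Z : Set X).Finite) (hpts : ∀ z ∈ Z, IsClosed ({z} : Set X)) {z : X}
    (hz : z ∈ Z) (hZ' : (Z' : Set X) = (Z : Set X) \ {z}) (j : Tw A Z ⟶ Tw A Z') (hj : j ≫ twι A Z' = twι A Z) :
    PointMod z (cokernel j) ∧ Nontrivial ((St z).obj (cokernel j)) := by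
  haveI := mono_twι hA Z'
  have hinj : ∀ y, Function.Injective ((St y).map (twι A Z')) := fun y =>
    (ModuleCat.mono_iff_injective _).1 inferInstance
  have hcomp : ∀ y v, (St y).map (twι A Z') ((St y).map j v) = (St y).map (twι A Z) v := fun y v => by
    rw [← ModuleCat.comp_apply, ← Functor.map_comp, hj]
  have hzZ' : z ∉ Z' := fun h => by
    rw [← SetLike.mem_coe, hZ'] at h; exact h.2 rfl
  have hπ : ∀ y, Function.Surjective ((St y).map (cokernel.π j)) := fun y =>
    (ModuleCat.epi_iff_surjective _).1 inferInstance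
  have hker : ∀ y v, (St y).map (cokernel.π j) ((St y).map j v) = 0 := fun y v => by
    rw [← ModuleCat.comp_apply, ← Functor.map_comp, cokernel.condition, Functor.map_zero]
    rfl
  have hoff : ∀ y, y ≠ z → Subsingleton ((St y).obj (cokernel j)) := fun y hy => by
    refine subsingleton_of_forall_eq 0 fun q => ?_
    obtain ⟨v, rfl⟩ := hπ y q
    have hmem : (St y).map (twι A Z') v ∈ LinearMap.range ((St y).map (twι A Z)).hom := by
      by_cases hyZ : y ∈ Z
      · have hy' : y ∈ Z' := by rw [← SetLike.mem_coe, hZ']; exact ⟨hyZ, hy⟩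
        rw [range_twι_mem hA Z hfin hpts hyZ, ← range_twι_mem hA Z' (hfin.subset (hZ' ▸ Set.sdiff_subset))
          (fun w hw => hpts w ((hZ' ▸ Set.sdiff_subset : (Z' : Set X) ⊆ Z) hw)) hy']
        exact ⟨v, rfl⟩
      · rw [range_twι_off A Z hyZ]; trivial
    obtain ⟨w, hw⟩ := hmem
    rw [show v = (St y).map j w from hinj y (hw.symm.trans (hcomp y w).symm)]
    exact hker y w
  have hann : ∀ a ∈ maximalIdeal (X.presheaf.stalk z), ∀ q : (St z).obj (cokernel j), a • q = 0 := fun a ha q => by
    obtain ⟨v, rfl⟩ := hπ z q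
    have hmem : (St z).map (twι A Z') (a • v) ∈ LinearMap.range ((St z).map (twι A Z)).hom := by
      rw [range_twι_mem hA Z hfin hpts hz, map_smul]
      exact Submodule.smul_mem_smul ha trivial
    obtain ⟨w, hw⟩ := hmem
    refine (((St z).map (cokernel.π j)).hom.map_smul a v).symm.trans ?_
    rw [show a • v = (St z).map j w from hinj z (hw.symm.trans (hcomp z w).symm)]
    exact hker z w
  obtain ⟨U, hzU, g, hg⟩ := exists_isGen hA z
  have hb := VarietyLib.gen_germ_bijective hg hzU
  let e₀ : (St z).obj A := A.presheaf.germ U z hzU g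
  obtain ⟨v₀, hv₀⟩ : e₀ ∈ LinearMap.range ((St z).map (twι A Z')).hom := by
    rw [range_twι_off A Z' hzZ']; trivial
  have hgen : ∀ q : (St z).obj (cokernel j), ∃ c : X.presheaf.stalk z, c • (St z).map (cokernel.π j) v₀ = q := fun q => by
    obtain ⟨v, rfl⟩ := hπ z q
    obtain ⟨c, hc⟩ := hb.2 ((St z).map (twι A Z') v)
    refine ⟨c, ?_⟩
    rw [← map_smul]
    refine congrArg _ (hinj z ?_)
    rw [map_smul]
    exact (congrArg (c • ·) hv₀).trans hc
  obtain ⟨s, hs, -⟩ := exists_section_point (cokernel j) (hpts z hz) ((St z).map (cokernel.π j) v₀)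
    fun a ha => hann a ha _
  refine ⟨⟨hpts z hz, hoff, hann, unitDesc _ s, epi_of_stalk _ fun y => ?_⟩, ?_⟩
  · refine (ModuleCat.epi_iff_surjective _).2 fun q => ?_
    by_cases hy : y = z
    · subst hy
      obtain ⟨c, hc⟩ := hgen q
      exact ⟨SDiv28.unitStalkEquiv y c, by rw [InjMod14.stalk_unitDesc, hs]; exact hc⟩
    · haveI := hoff y hy
      exact ⟨0, Subsingleton.elim _ _⟩
  · refine nontrivial_of_ne ((St z).map (cokernel.π j) v₀) 0 fun h0 => ?_
    obtain ⟨w, hw⟩ := (ShortComplex.moduleCat_exact_iff _).1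
      ((ShortComplex.exact_cokernel j).map (St z)) v₀ h0
    have hmem : e₀ ∈ LinearMap.range ((St z).map (twι A Z)).hom := by
      refine ⟨w, ?_⟩
      rw [← hv₀]
      exact (hcomp z w).symm.trans (congrArg _ hw)
    rw [range_twι_mem hA Z hfin hpts hz] at hmem
    obtain ⟨r, hr, hre⟩ : ∃ r ∈ maximalIdeal (X.presheaf.stalk z), r • e₀ = e₀ := by
      have hle : maximalIdeal (X.presheaf.stalk z) • (⊤ : Submodule (X.presheaf.stalk z) ((St z).obj A)) ≤
          Submodule.map (LinearMap.toSpanSingleton _ _ e₀) (maximalIdeal _) :=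
        Submodule.smul_le.2 fun r hr v _ => by
          obtain ⟨s, rfl⟩ := hb.2 v
          exact ⟨r * s, Ideal.mul_mem_right _ _ hr, mul_smul r s e₀⟩
      obtain ⟨r, hr, hre⟩ := hle hmem
      exact ⟨r, hr, hre⟩
    have : r = 1 := hb.1 (hre.trans (one_smul _ e₀).symm)
    exact (maximalIdeal.isMaximal _).ne_top ((Ideal.eq_top_iff_one _).2 (this ▸ hr))

variable (k : Type u) [Field k] [X.Over (Spec (CommRingCat.of k))]

/-- At a closed point every germ is congruent to a constant. -/
theorem exists_const [IsAlgClosed k] [IsProper (X ↘ Spec (CommRingCat.of k))] {x : X}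
    (hx : IsClosed ({x} : Set X)) (r : X.presheaf.stalk x) :
    ∃ c : k, r - Curv2.stalkMap k X x c ∈ maximalIdeal (X.presheaf.stalk x) := by
  let _ := Curv2.resAlgebra k X x
  haveI := CurveRR24.finite_resField hx k
  obtain ⟨c, hc⟩ := (IsAlgClosed.algebraMap_bijective_of_isIntegral (k := k) (K := X.residueField x)).2
    ((X.residue x) r)
  refine ⟨c, Ideal.Quotient.eq_zero_iff_mem.1 ?_⟩
  show IsLocalRing.residue _ (r - Curv2.stalkMap k X x c) = 0
  rw [map_sub, sub_eq_zero]
  exact hc.symm

/-- A point module with non-zero stalk has one-dimensional sections. -/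
theorem PointMod.finrank_h0 [IsAlgClosed k] [IsProper (X ↘ Spec (CommRingCat.of k))] [IsLocallyNoetherian X]
    {x : X} {Q : X.Modules} (hQ : PointMod x Q) [Nontrivial ((St x).obj Q)] :
    Module.finrank k (Coh.HH X Q 0) = 1 := by
  obtain ⟨p, hp⟩ := hQ.cyclic
  haveI := hp
  let s : GA (baseHom k X) Q := unitVal p ⊤
  have hgerm0 : ∀ y, y ≠ x → ∀ t : Γ(Q, ⊤), Q.presheaf.germ ⊤ y trivial t = 0 := fun y hy t => by
    haveI : Subsingleton ((St y).obj Q) := hQ.off y hy
    exact Subsingleton.elim (α := (St y).obj Q) _ _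
  have hext : ∀ t t' : Γ(Q, ⊤), Q.presheaf.germ ⊤ x trivial t = Q.presheaf.germ ⊤ x trivial t' → t = t' :=
    fun t t' h => sec_ext_germ Q t t' fun y _ => by
      by_cases hy : y = x
      · subst hy; exact h
      · exact (hgerm0 y hy t).trans (hgerm0 y hy t').symm
  have hgenx : ∀ q : (St x).obj Q, ∃ r : X.presheaf.stalk x, r • Q.presheaf.germ ⊤ x trivial (unitVal p ⊤) = q := fun q => by
    obtain ⟨v, rfl⟩ := (ModuleCat.epi_iff_surjective ((St x).map p)).1 inferInstance q
    obtain ⟨r, rfl⟩ := (SDiv28.unitStalkEquiv x).surjective v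
    refine ⟨r, ?_⟩
    conv_rhs => rw [← unitDesc_unitVal p]
    exact (InjMod14.stalk_unitDesc _ _ _ _).symm
  refine (LinearEquiv.finrank_eq (CurveRR24.hhZero k Q)).trans (finrank_eq_one s ?_ fun t => ?_)
  · intro h0
    obtain ⟨q, hq⟩ := exists_ne (0 : (St x).obj Q)
    obtain ⟨r, rfl⟩ := hgenx q
    refine hq ?_
    rw [show (unitVal p ⊤ : Γ(Q, ⊤)) = 0 from h0, map_zero, smul_zero]
  · obtain ⟨r, hr⟩ := hgenx (Q.presheaf.germ ⊤ x trivial t)
    obtain ⟨c, hc⟩ := exists_const k hQ.closed r
    refine ⟨c, hext _ _ ?_⟩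
    have h0 := hQ.ann _ hc (Q.presheaf.germ ⊤ x trivial (unitVal p ⊤))
    rw [sub_smul, sub_eq_zero] at h0
    refine Eq.trans ?_ hr
    refine (QCohLoc.germ_smul' (M := Q) (show x ∈ (⊤ : X.Opens) from trivial) _ _).trans ?_
    exact h0.symm

end Groth.Agent.Mod22.CB
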